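import Cfsg.Agent.Lib.Fusion.Meet.System

/-!
The automorphism groups of the system are the groups `meetAut`, and the maps onto a `Top` subgroup
extend as far as possible.
-/

set_option autoImplicit false
set_option linter.unusedSectionVars false

namespace Cfsg.Agent.Fusion.Meet

open Cfsg Cfsg.FusionSystem Cfsg.Agent.Fusion

universe u

variable {Ω : Type u} [Group Ω] {S T T' : Subgroup Ω} {F : FusionSystem S} {E : FusionSystem T}
  {D : FusionSystem T'} {p : ℕ}
variable [Finite S] [Fact p.Prime]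

/-- A map onto `U` extends, after an element of `meetAut`, to the normalizer in `R` of its source. -/
def Good (c : Ctx F E D p) (U U' : Subgroup Ω) (σ : U' →* Ω) : Prop :=
  ∃ (hσ : σ ∈ F.Hom U') (hr : σ.range = U), U' ≤ T ⊓ T' ∧
    ∃ a ∈ meetAut F E D p U, ∃ g ∈ (meetSystem c).Hom (normalizerIn (T ⊓ T') U'),
      ∀ (x : U') (hx : (x : Ω) ∈ normalizerIn (T ⊓ T') U'),
        g ⟨x, hx⟩ = ((a (homEquiv hσ hr x) : U) : Ω)

/-- The maps onto the `Top` subgroups larger than `U` are `Good`. -/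
def AboveGood (c : Ctx F E D p) (n : ℕ) : Prop :=
  ∀ W : Subgroup Ω, InH F (T ⊓ T') W → Top F (T ⊓ T') W → n < Nat.card W →
    ∀ (W' : Subgroup Ω) (σ : W' →* Ω), σ ∈ (meetSystem c).Hom W' → σ.range = W → Good c W W' σ

theorem exists_conj_le (c : Ctx F E D p) (hk : KerBound F E D p) {U : Subgroup Ω}
    (hU : U ≤ T ⊓ T') (htop : Top F (T ⊓ T') U) {P₁ : Subgroup (MulAut U)} (hP₁ : IsPGroup p P₁)
    (hle₁ : P₁ ≤ meetAut F E D p U) :
    ∃ a ∈ meetAut F E D p U, ∀ x ∈ P₁, a * x * a⁻¹ ∈ autInducedBy (T ⊓ T') U := by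
  set R := T ⊓ T' with hR
  have hUS := hU.trans c.le
  have := finite_mulAut (Ω := Ω) hUS
  set A := meetAut F E D p U with hA
  have hle := autInducedBy_le_meetAut (E := E) (D := D) (p := p) (F := F) (T := T) (T' := T') hUS
  have hpg : IsPGroup p ((autInducedBy R U).subgroupOf A) :=
    (isPGroup_autInducedBy (c.hS.to_le c.le) U).of_equiv
      (Subgroup.subgroupOfEquivOfLe hle).symm
  obtain ⟨W, hW⟩ := hpg.exists_le_sylow
  have hWR : (W : Subgroup A).map A.subtype ≤ autInducedBy R U :=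
    sylR_of_top c hk htop _ (W.isPGroup'.map _) (fun a ha => ⟨⟨a, hle ha⟩, hW ha, rfl⟩)
      (Subgroup.map_subtype_le _)
  obtain ⟨W₂, hW₂⟩ := (hP₁.comap_subtype (K := A) : IsPGroup p (P₁.subgroupOf A)).exists_le_sylow
  obtain ⟨q, hq⟩ := MulAction.exists_smul_eq A W₂ W
  refine ⟨q, q.2, fun x hx => hWR ⟨q * ⟨x, hle₁ hx⟩ * q⁻¹, ?_, rfl⟩⟩
  show _ ∈ (W : Subgroup A)
  rw [← hq, Sylow.coe_subgroup_smul]
  exact Subgroup.smul_mem_pointwise_smul _ (MulAut.conj q) _ (hW₂ hx)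

/-- An element of `meetAut` on `W` fixing `U` and translating by `U` is conjugation by an element
of `U`. -/
theorem exists_fix_inner (c : Ctx F E D p) (hk : KerBound F E D p) {U W : Subgroup Ω}
    (hU : InH F (T ⊓ T') U) (hUW : U ≤ W) (hW : W ≤ T ⊓ T') {π : MulAut W}
    (hπ : π ∈ meetAut F E D p W) (hfix : ∀ z : W, (z : Ω) ∈ U → π z = z)
    (ht : ∀ z : W, ((z⁻¹ * π z : W) : Ω) ∈ U) :
    ∃ u ∈ U, ∀ z : W, ((π z : W) : Ω) = u * z * u⁻¹ := by
  set R := T ⊓ T' with hR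
  have hWS := hW.trans c.le
  obtain ⟨j, hj⟩ := isPGroup_fixingTranslations (R := U) c.hS hWS
    ⟨π, meetAut_le_autGroup c hW hπ, hfix, ht⟩
  obtain ⟨N₁, φ, hφ, hr, hind⟩ :=
    exists_conj_pElement c hk hW hπ (k := j) (congrArg Subtype.val hj)
  obtain ⟨r, hrR, hre⟩ := mem_autInducedBy_iff.1 hind
  have hval : ∀ z : W, φ (π z) = r * φ z * r⁻¹ := fun z => by
    have h1 := hre (homEquiv hφ hr z)
    rwa [congr_apply, coe_homEquiv, coe_homEquiv] at h1
  have hrU : r ∈ (φ.comp (Subgroup.inclusion hUW)).range := by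
    refine hU.cent _ ⟨_, restrict_mem hφ hUW, rfl⟩ ⟨hrR, Subgroup.mem_centralizer_iff.2 ?_⟩
    rintro _ ⟨u, rfl⟩
    show φ (Subgroup.inclusion hUW u) * r = r * φ (Subgroup.inclusion hUW u)
    have h1 := hval (Subgroup.inclusion hUW u)
    rw [hfix _ u.2] at h1
    conv_lhs => rw [h1]
    group
  obtain ⟨u, rfl⟩ := hrU
  refine ⟨u, u.2, fun z => ?_⟩
  have h2 : π z = Subgroup.inclusion hUW u * z * (Subgroup.inclusion hUW u)⁻¹ :=
    F.injective_of_mem hφ ((hval z).trans (by rw [map_mul, map_mul, map_inv]; rfl))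
  exact congrArg Subtype.val h2

theorem autGroup_top_le (c : Ctx F E D p) :
    (meetSystem c).autGroup (T ⊓ T') ≤ meetAut F E D p (T ⊓ T') := by
  set R := T ⊓ T' with hR
  intro β hβ
  let C : ∀ P : Subgroup Ω, (P →* Ω) → Prop := fun P φ =>
    ∀ hP : R ≤ P, ∃ γ ∈ meetAut F E D p R, ∀ x : R, φ (Subgroup.inclusion hP x) = ((γ x : R) : Ω)
  have h : C R (R.subtype.comp β.toMonoidHom) := by
    refine meetSystem_induction c C ?_ ?_ ?_ ?_ ((mem_autGroup_iff le_rfl).1 hβ)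
    · intro P g _ hg hP
      exact ⟨conjAut (Subgroup.le_normalizer hg),
        autInducedBy_le_meetAut c.le (conjAut_mem_autInducedBy hg _), fun x => rfl⟩
    · intro P Q φ ψ _ _ hφ hψ h hP
      obtain ⟨γ, hγ, hv⟩ := hφ hP
      have hQ : R ≤ Q := fun x hx => by
        have := h (Subgroup.inclusion hP (γ⁻¹ ⟨x, hx⟩))
        rwa [hv, MulAut.apply_inv_self] at this
      obtain ⟨δ, hδ, hv'⟩ := hψ hQ
      refine ⟨δ * γ, mul_mem hδ hγ, fun x => ?_⟩
      refine Eq.trans ?_ (hv' (γ x))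
      exact congrArg ψ (Subtype.ext (hv x))
    · intro P φ ψ hφX hφ _ hi hP
      have : Finite R := finite_of_le (Ω := Ω) c.le
      have : Finite P := finite_of_le (Ω := Ω) ((dom_le hφX).trans c.le)
      have hRP : R ≤ P := by
        refine (Subgroup.eq_of_le_of_card_ge (dom_le hφX) ?_).ge
        exact (card_le_of_le (S := S) (range_le hφX |>.trans c.le) hP).trans_eq (card_range hφX)
      obtain ⟨γ, hγ, hv⟩ := hφ hRP
      refine ⟨γ⁻¹, inv_mem hγ, fun x => ?_⟩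
      refine Eq.trans (congrArg ψ (Subtype.ext ?_)) (hi (Subgroup.inclusion hRP (γ⁻¹ x)))
      show (x : Ω) = φ _
      rw [hv, MulAut.apply_inv_self]
    · intro M hM a ha hc hP
      obtain rfl : M = R := le_antisymm hM.le hP
      exact ⟨a, mem_meetAut_coprime ha hc, fun x => rfl⟩
  obtain ⟨γ, hγ, hv⟩ := h le_rfl
  rwa [show β = γ from MulEquiv.ext fun x => Subtype.ext (hv x)]

/-- A `Good` map extends to any subgroup of the normalizer carried into the normalizer. -/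
theorem Good.extend {c : Ctx F E D p} (hk : KerBound F E D p) {U U' : Subgroup Ω}
    (hU : InH F (T ⊓ T') U) (htop : Top F (T ⊓ T') U) {σ : U' →* Ω} (hg : Good c U U' σ)
    {M : Subgroup Ω} (hUM : U' ≤ M) (hM : M ≤ normalizerIn (T ⊓ T') U')
    (hcj : ∀ m ∈ M, ∃ r ∈ T ⊓ T', ∀ (x : U') (hx : m * (x : Ω) * m⁻¹ ∈ U'),
      σ ⟨m * x * m⁻¹, hx⟩ = r * σ x * r⁻¹) :
    ∃ ψ ∈ (meetSystem c).Hom M, (∀ m, ψ m ∈ normalizerIn (T ⊓ T') U) ∧
      ∀ x : U', ψ (Subgroup.inclusion hUM x) = σ x := by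
  set R := T ⊓ T' with hR
  obtain ⟨hσ, hr, hU'R, a, ha, g, hgX, hgv⟩ := hg
  set e := homEquiv hσ hr with he
  set g₁ := g.comp (Subgroup.inclusion hM) with hg₁
  have hg₁X : g₁ ∈ (meetSystem c).Hom M := restrict_mem hgX hM
  have hg₁v : ∀ x : U', g₁ (Subgroup.inclusion hUM x) = ((a (e x) : U) : Ω) := fun x => hgv x _
  set W := g₁.range with hW
  have hUW : U ≤ W := fun z hz => by
    obtain ⟨y, hy⟩ := a.surjective ⟨z, hz⟩
    obtain ⟨x, rfl⟩ := e.surjective y
    exact ⟨Subgroup.inclusion hUM x, (hg₁v x).trans (congrArg Subtype.val hy)⟩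
  have hWN : W ≤ normalizerIn R U := by
    rintro _ ⟨m, rfl⟩
    refine ⟨apply_mem hg₁X m, ?_⟩
    have := finite_of_le (Ω := Ω) (hU.le.trans c.le)
    refine mem_normalizer_of_forall fun z hz => ?_
    obtain ⟨y, hy⟩ := a.surjective ⟨z, hz⟩
    obtain ⟨x, rfl⟩ := e.surjective y
    have hz' : z = g₁ (Subgroup.inclusion hUM x) :=
      ((hg₁v x).trans (congrArg Subtype.val hy)).symm
    have hx' : (m : Ω) * x * (m : Ω)⁻¹ ∈ U' := (Subgroup.mem_normalizer_iff.1 (hM m.2).2 x).1 x.2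
    rw [hz', ← map_inv, ← map_mul, ← map_mul,
      show m * Subgroup.inclusion hUM x * m⁻¹ = Subgroup.inclusion hUM ⟨_, hx'⟩ from
        Subtype.ext rfl, hg₁v]
    exact (a _).2
  obtain ⟨Φ, hΦ, hΦN, hΦv⟩ := exists_map_of_conj c hk hU htop (inv_mem ha) hUW hWN
    fun b hb => by
      obtain ⟨w, ⟨m, rfl⟩, hbe⟩ := mem_autInducedBy_iff.1 hb
      obtain ⟨r, hrR, hre⟩ := hcj m m.2
      refine mem_autInducedBy_iff.2 ⟨r, hrR, fun z => ?_⟩
      obtain ⟨x, rfl⟩ := e.surjective z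
      have hx' : (m : Ω) * x * (m : Ω)⁻¹ ∈ U' :=
        (Subgroup.mem_normalizer_iff.1 (hM m.2).2 x).1 x.2
      have hb' : b (a (e x)) = a (e ⟨_, hx'⟩) := Subtype.ext (by
        rw [hbe, ← hg₁v, ← hg₁v, ← map_inv, ← map_mul, ← map_mul]
        exact congrArg g₁ (Subtype.ext rfl))
      rw [MulAut.mul_apply, MulAut.mul_apply, inv_inv, hb', MulAut.inv_apply_self]
      exact hre x hx'
  refine ⟨_, (meetSystem c).comp_mem hg₁X hΦ fun m => ⟨m, rfl⟩, fun m => hΦN _, fun x => ?_⟩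
  refine Eq.trans (congrArg Φ (Subtype.ext (hg₁v x) :
    (⟨g₁ (Subgroup.inclusion hUM x), _, rfl⟩ : W) = Subgroup.inclusion hUW (a (e x)))) ?_
  rw [hΦv, MulAut.inv_apply_self]
  rfl

/-- A map onto a `Top` subgroup extending strictly upwards is `Good`. -/
theorem good_of_extension (c : Ctx F E D p) (hk : KerBound F E D p) {U U' : Subgroup Ω}
    (hU : InH F (T ⊓ T') U) (htop : Top F (T ⊓ T') U) (hab : AboveGood c (Nat.card U))
    {σ : U' →* Ω} (hσ : σ ∈ F.Hom U') (hr : σ.range = U) (hU' : U' ≤ T ⊓ T')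
    {W : Subgroup Ω} (hlt : U' < W) (hWN : W ≤ normalizerIn (T ⊓ T') U')
    {g : W →* Ω} (hg : g ∈ (meetSystem c).Hom W)
    (hgv : ∀ x : U', g (Subgroup.inclusion hlt.le x) = σ x) : Good c U U' σ := by
  set R := T ⊓ T' with hR
  set N := normalizerIn R U' with hN
  set e := homEquiv hσ hr with he
  have hU'S := hU'.trans c.le
  have hUS := hU.le.trans c.le
  -- conjugate the automorphisms induced by `N` into `Aut_R(U)`
  obtain ⟨a, ha, haj⟩ := exists_conj_le c hk hU.le htop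
    (P₁ := (autInducedBy R U').map (MulAut.congr e).toMonoidHom)
    ((isPGroup_autInducedBy (c.hS.to_le c.le) U').map _)
    (by rintro _ ⟨b, hb, rfl⟩; exact mem_meetAut_congr hσ hr hb)
  have hcj : ∀ n, n ∈ N → ∃ r ∈ R, ∀ (x : U') (hx : n * (x : Ω) * n⁻¹ ∈ U'),
      ((a (e ⟨n * x * n⁻¹, hx⟩) : U) : Ω) = r * (a (e x) : U) * r⁻¹ := by
    intro n hn
    obtain ⟨r, hrR, hre⟩ :=
      mem_autInducedBy_iff.1 (haj _ ⟨_, conjAut_mem_autInducedBy hn.1 hn.2, rfl⟩)
    refine ⟨r, hrR, fun x hx => ?_⟩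
    have h1 := hre (a (e x))
    rw [MulAut.mul_apply, MulAut.mul_apply, MulAut.inv_apply_self,
      show (MulAut.congr e).toMonoidHom (conjAut hn.2) (e x) = MulAut.congr e (conjAut hn.2) (e x)
        from rfl, congr_apply] at h1
    exact h1
  -- grow
  suffices H : ∀ k (W : Subgroup Ω) (hlt : U' < W), W ≤ N → Nat.card N ≤ Nat.card W + k →
      ∀ g ∈ (meetSystem c).Hom W,
        (∀ x : U', g (Subgroup.inclusion hlt.le x) = ((a (e x) : U) : Ω)) →
        ∃ g' ∈ (meetSystem c).Hom N, ∀ (x : U') (hx : (x : Ω) ∈ N),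
          g' ⟨x, hx⟩ = ((a (e x) : U) : Ω) by
    set W₂ := g.range with hW₂
    have hUW₂ : U ≤ W₂ := fun z hz => by
      obtain ⟨x, hx⟩ := hr.ge hz
      exact ⟨Subgroup.inclusion hlt.le x, (hgv x).trans hx⟩
    have hW₂N : W₂ ≤ normalizerIn R U := by
      rintro _ ⟨w, rfl⟩
      refine ⟨apply_mem hg w, ?_⟩
      have := finite_of_le (Ω := Ω) hUS
      refine mem_normalizer_of_forall fun z hz => ?_
      obtain ⟨x, rfl⟩ := hr.ge hz
      have hx' : (w : Ω) * x * (w : Ω)⁻¹ ∈ U' :=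
        (Subgroup.mem_normalizer_iff.1 (hWN w.2).2 x).1 x.2
      rw [← hgv x, ← map_inv, ← map_mul, ← map_mul,
        show w * Subgroup.inclusion hlt.le x * w⁻¹ = Subgroup.inclusion hlt.le ⟨_, hx'⟩ from
          Subtype.ext rfl, hgv]
      exact hr.le ⟨_, rfl⟩
    obtain ⟨Φ, hΦ, -, hΦv⟩ := exists_map_of_conj c hk hU htop ha hUW₂ hW₂N fun b hb => by
      obtain ⟨w₂, ⟨w, rfl⟩, hbe⟩ := mem_autInducedBy_iff.1 hb
      refine haj b ⟨conjAut (hWN w.2).2, conjAut_mem_autInducedBy (hWN w.2).1 _, ?_⟩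
      refine MulEquiv.ext fun z => ?_
      obtain ⟨x, rfl⟩ := e.surjective z
      refine Subtype.ext ?_
      rw [show (MulAut.congr e).toMonoidHom (conjAut (hWN w.2).2) (e x) =
        MulAut.congr e (conjAut (hWN w.2).2) (e x) from rfl, congr_apply, hbe, he, coe_homEquiv,
        coe_homEquiv, ← hgv, ← hgv, ← map_inv, ← map_mul, ← map_mul]
      exact congrArg g (Subtype.ext rfl)
    obtain ⟨g', hg', hg'v⟩ := H (Nat.card N) W hlt hWN (by omega) _
      ((meetSystem c).comp_mem hg hΦ fun w => ⟨w, rfl⟩) fun x => by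
      refine Eq.trans (congrArg Φ (Subtype.ext ?_ :
        (⟨g (Subgroup.inclusion hlt.le x), _, rfl⟩ : W₂) = Subgroup.inclusion hUW₂ (e x))) (hΦv _)
      show g (Subgroup.inclusion hlt.le x) = σ x
      exact hgv x
    exact ⟨hσ, hr, hU', a, ha, g', hg', hg'v⟩
  intro k
  induction k with
  | zero =>
    intro W hlt hWN hcard g hg hv
    obtain rfl : W = N :=
      eq_of_le_of_card_le ((normalizerIn_le R U').trans c.le) hWN (by omega)
    exact ⟨g, hg, fun x hx => hv x⟩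
  | succ k ih =>
    intro W hlt hWN hcard g hg hv
    by_cases hWeq : W = N
    · subst hWeq
      exact ⟨g, hg, fun x hx => hv x⟩
    set M := normalizerIn N W with hMdef
    have hNS : N ≤ S := (normalizerIn_le R U').trans c.le
    have := finite_of_le (Ω := Ω) hNS
    have hWM : W < M := lt_normalizerIn (c.hS.to_le hNS) (lt_of_le_of_ne hWN hWeq)
    have hMN : M ≤ N := normalizerIn_le N W
    set W₂ := g.range with hW₂
    have hW₂R : W₂ ≤ R := range_le hg
    have hgF : g ∈ F.Hom W := meetSystem_sub c W hg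
    have hUW₂ : U ≤ W₂ := fun z hz => by
      obtain ⟨y, hy⟩ := a.surjective ⟨z, hz⟩
      obtain ⟨x, rfl⟩ := e.surjective y
      exact ⟨Subgroup.inclusion hlt.le x, (hv x).trans (congrArg Subtype.val hy)⟩
    have hW₂H : InH F R W₂ := hU.mono hUW₂ hW₂R
    set eg := homEquiv hgF (rfl : g.range = W₂) with heg
    -- each `c_m` is carried to a conjugation on `W₂`
    have hr' : ∀ m (hm : m ∈ M), ∃ r ∈ R, ∀ (w : W) (hw : m * (w : Ω) * m⁻¹ ∈ W),
        g ⟨m * w * m⁻¹, hw⟩ = r * g w * r⁻¹ := by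
      intro m hm
      obtain ⟨r, hrR, hre⟩ := hcj m (hMN hm)
      have hmW : m ∈ Subgroup.normalizer (W : Set Ω) := hm.2
      have hmR : m ∈ R := (hMN hm).1
      -- conjugation by `r` agrees modulo `U`
      have hmod : ∀ w : W, (r * g w * r⁻¹)⁻¹ * g (conjAut hmW w) ∈ U := by
        intro w
        refine hU.centralizer_le ⟨R.mul_mem (R.inv_mem (R.mul_mem (R.mul_mem hrR (apply_mem hg w))
          (R.inv_mem hrR))) (apply_mem hg _), Subgroup.mem_centralizer_iff.2 fun z hz => ?_⟩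
        obtain ⟨y, hy⟩ := a.surjective ⟨z, hz⟩
        obtain ⟨x, rfl⟩ := e.surjective y
        obtain rfl : ((a (e x) : U) : Ω) = z := congrArg Subtype.val hy
        -- both sides act on `U` in the same way
        have hwN : (w : Ω) ∈ Subgroup.normalizer (U' : Set Ω) := (hWN w.2).2
        have key : ∀ x₁ : U', ∀ x₂ : U', m * w * m⁻¹ * (x₁ : Ω) * (m * w * m⁻¹)⁻¹ = (x₂ : Ω) →
            g (conjAut hmW w) * (a (e x₁) : U) * (g (conjAut hmW w))⁻¹ =
              (r * g w * r⁻¹) * (a (e x₁) : U) * (r * g w * r⁻¹)⁻¹ := by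
          intro x₁ x₂ hx
          have hmN : m ∈ Subgroup.normalizer (U' : Set Ω) := (hMN hm).2
          have hy₁ : m⁻¹ * (x₁ : Ω) * m ∈ U' :=
            (Subgroup.mem_normalizer_iff''.1 hmN _).1 x₁.2
          set y₁ : U' := ⟨_, hy₁⟩ with hy₁d
          have hy₂ : (w : Ω) * y₁ * (w : Ω)⁻¹ ∈ U' :=
            (Subgroup.mem_normalizer_iff.1 hwN _).1 y₁.2
          set y₂ : U' := ⟨_, hy₂⟩ with hy₂d
          have hm₁ : m * (y₁ : Ω) * m⁻¹ ∈ U' :=
            (Subgroup.mem_normalizer_iff.1 hmN _).1 y₁.2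
          have hm₂ : m * (y₂ : Ω) * m⁻¹ ∈ U' :=
            (Subgroup.mem_normalizer_iff.1 hmN _).1 y₂.2
          have e1 : ((a (e x₁) : U) : Ω) = r * (a (e y₁) : U) * r⁻¹ := by
            rw [← hre y₁ hm₁]
            exact congrArg (fun t : U' => ((a (e t) : U) : Ω)) (Subtype.ext (by
              show (x₁ : Ω) = m * (m⁻¹ * x₁ * m) * m⁻¹
              group))
          have e2 : ((a (e y₂) : U) : Ω) = g w * (a (e y₁) : U) * (g w)⁻¹ := by
            rw [← hv, ← hv, ← map_inv, ← map_mul, ← map_mul]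
            exact congrArg g (Subtype.ext rfl)
          have e3 : g (conjAut hmW w) * (a (e x₁) : U) * (g (conjAut hmW w))⁻¹ =
              r * (a (e y₂) : U) * r⁻¹ := by
            rw [← hre y₂ hm₂, ← hv, ← hv, ← map_inv, ← map_mul, ← map_mul]
            refine congrArg g (Subtype.ext ?_)
            show m * w * m⁻¹ * (x₁ : Ω) * (m * w * m⁻¹)⁻¹ = m * (w * (m⁻¹ * x₁ * m) * (w : Ω)⁻¹) * m⁻¹
            group
          rw [e3, e2, e1]
          group
        have hx₂ : m * w * m⁻¹ * (x : Ω) * (m * w * m⁻¹)⁻¹ ∈ U' := by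
          refine (Subgroup.mem_normalizer_iff.1 ?_ _).1 x.2
          exact (hWN (conjAut hmW w).2).2
        have h1 := key x ⟨_, hx₂⟩ rfl
        set A₁ := r * g w * r⁻¹ with hA₁
        set B₁ := g (conjAut hmW w) with hB₁
        calc ((a (e x) : U) : Ω) * (A₁⁻¹ * B₁)
            = A₁⁻¹ * (A₁ * (a (e x) : U) * A₁⁻¹) * B₁ := by group
          _ = A₁⁻¹ * (B₁ * (a (e x) : U) * B₁⁻¹) * B₁ := by rw [h1]
          _ = A₁⁻¹ * B₁ * (a (e x) : U) := by group
      have hrW : r ∈ Subgroup.normalizer (W₂ : Set Ω) := by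
        have := finite_of_le (Ω := Ω) (hW₂R.trans c.le)
        refine mem_normalizer_of_forall fun z hz => ?_
        obtain ⟨w, rfl⟩ := hz
        have h1 := W₂.mul_mem (⟨_, rfl⟩ : g (conjAut hmW w) ∈ W₂) (W₂.inv_mem (hUW₂ (hmod w)))
        rwa [mul_inv_rev, inv_inv, mul_inv_cancel_left] at h1
      -- the difference
      set π := (conjAut hrW)⁻¹ * MulAut.congr eg (conjAut hmW) with hπ
      have hπA : π ∈ meetAut F E D p W₂ := mul_mem
        (inv_mem (autInducedBy_le_meetAut (hW₂R.trans c.le) (conjAut_mem_autInducedBy hrR hrW)))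
        (mem_meetAut_congr hgF rfl (conjAut_mem_autInducedBy hmR hmW))
      have hcr : ∀ z : W₂, ((conjAut hrW (π z) : W₂) : Ω) = r * (π z : W₂) * r⁻¹ := fun z => rfl
      have hπv : ∀ w : W, r * (π (eg w) : W₂) * r⁻¹ = g (conjAut hmW w) := fun w => by
        rw [← hcr, hπ, MulAut.mul_apply, MulAut.apply_inv_self, congr_apply]
        rfl
      have hπU : ∀ z : W₂, (z : Ω) ∈ U → π z = z := by
        intro z hz
        obtain ⟨y, hy⟩ := a.surjective ⟨z, hz⟩
        obtain ⟨x, rfl⟩ := e.surjective y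
        have hzv : z = eg (Subgroup.inclusion hlt.le x) := Subtype.ext
          ((congrArg Subtype.val hy).symm.trans (hv x).symm)
        have hx' : m * (x : Ω) * m⁻¹ ∈ U' := (Subgroup.mem_normalizer_iff.1 (hMN hm).2 x).1 x.2
        refine (conjAut hrW).injective (Subtype.ext ?_)
        rw [hcr, hzv, hπv, coe_conjAut]
        show g _ = r * g (Subgroup.inclusion hlt.le x) * r⁻¹
        rw [hv, show conjAut hmW (Subgroup.inclusion hlt.le x) = Subgroup.inclusion hlt.le ⟨_, hx'⟩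
          from Subtype.ext rfl, hv, hre x hx']
      have hπt : ∀ z : W₂, ((z⁻¹ * π z : W₂) : Ω) ∈ U := by
        intro z
        obtain ⟨w, rfl⟩ := eg.surjective z
        have h1 := hmod w
        rw [← hπv w] at h1
        have h2 : (r * g w * r⁻¹)⁻¹ * (r * (π (eg w) : W₂) * r⁻¹) =
            r * ((g w)⁻¹ * (π (eg w) : W₂)) * r⁻¹ := by group
        rw [h2] at h1
        have hrU : r ∈ Subgroup.normalizer (U : Set Ω) := by
          have := finite_of_le (Ω := Ω) hUS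
          refine mem_normalizer_of_forall fun z hz => ?_
          obtain ⟨y, hy⟩ := a.surjective ⟨z, hz⟩
          obtain ⟨x, rfl⟩ := e.surjective y
          rw [show z = ((a (e x) : U) : Ω) from (congrArg Subtype.val hy).symm,
            ← hre x ((Subgroup.mem_normalizer_iff.1 (hMN hm).2 x).1 x.2)]
          exact (a _).2
        exact (Subgroup.mem_normalizer_iff.1 hrU _).2 h1
      obtain ⟨z₀, hz₀, hπz⟩ := exists_fix_inner c hk hU hUW₂ hW₂R hπA hπU hπt
      refine ⟨r * z₀, R.mul_mem hrR (hU.le hz₀), fun w hw => ?_⟩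
      rw [show (⟨m * w * m⁻¹, hw⟩ : W) = conjAut hmW w from Subtype.ext rfl, ← hπv, hπz]
      show r * (z₀ * g w * z₀⁻¹) * r⁻¹ = _
      group
    -- move `W₂` to a `Top` subgroup
    obtain ⟨hN₂, h, hh, hhN, hhtop, hhH⟩ := exists_reach_of_frattini c hW₂H
      fun _ hψ => frattiniOn_meetSystem c hk hψ
    set W₁ := (h.comp (Subgroup.inclusion hN₂)).range with hW₁
    have hgN : ∀ w : W, g w ∈ normalizerIn R W₂ := fun w => hN₂ ⟨w, rfl⟩
    set σ₁ := h.comp (g.codRestrict _ hgN) with hσ₁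
    have hσ₁X : σ₁ ∈ (meetSystem c).Hom W := (meetSystem c).comp_mem hg hh hgN
    have hσ₁r : σ₁.range = W₁ := by
      refine le_antisymm ?_ ?_
      · rintro _ ⟨w, rfl⟩
        exact ⟨⟨g w, w, rfl⟩, rfl⟩
      · rintro _ ⟨⟨_, w, rfl⟩, rfl⟩
        exact ⟨w, rfl⟩
    have hcardW : Nat.card U < Nat.card W₁ := by
      have h1 : Nat.card W₁ = Nat.card W := by rw [← hσ₁r, card_range hσ₁X]
      have h2 : Nat.card U = Nat.card U' := by rw [← hr, card_range hσ]
      rw [h1, h2]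
      exact card_lt_of_lt (hWN.trans hNS) hlt
    have hgood := hab W₁ hhH hhtop hcardW W σ₁ hσ₁X hσ₁r
    have hMR : M ≤ normalizerIn R W := fun m hm => ⟨(hMN hm).1, hm.2⟩
    obtain ⟨ψ, hψ, hψN, hψv⟩ := hgood.extend hk hhH hhtop hWM.le hMR fun m hm => by
      obtain ⟨r, hrR, hre⟩ := hr' m hm
      have hrN : r ∈ normalizerIn R W₂ := by
        refine ⟨hrR, ?_⟩
        have := finite_of_le (Ω := Ω) (hW₂R.trans c.le)
        refine mem_normalizer_of_forall fun z hz => ?_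
        obtain ⟨w, rfl⟩ := hz
        rw [← hre w ((Subgroup.mem_normalizer_iff.1 hm.2 w).1 w.2)]
        exact ⟨_, rfl⟩
      refine ⟨h ⟨r, hrN⟩, apply_mem hh _, fun w hw => ?_⟩
      show h ⟨g _, _⟩ = h _ * h ⟨g w, _⟩ * (h _)⁻¹
      rw [← map_inv, ← map_mul, ← map_mul]
      exact congrArg h (Subtype.ext (hre w hw))
    have hψh : ∀ m, ψ m ∈ h.range := by
      intro m
      obtain ⟨r, hrR, hre⟩ := hr' m m.2
      have hmW : (m : Ω) ∈ Subgroup.normalizer (W : Set Ω) := m.2.2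
      have hrN : r ∈ normalizerIn R W₂ := by
        refine ⟨hrR, ?_⟩
        have := finite_of_le (Ω := Ω) (hW₂R.trans c.le)
        refine mem_normalizer_of_forall fun z hz => ?_
        obtain ⟨w, rfl⟩ := hz
        rw [← hre w ((Subgroup.mem_normalizer_iff.1 hmW w).1 w.2)]
        exact ⟨_, rfl⟩
      have hcm : (h ⟨r, hrN⟩)⁻¹ * ψ m ∈ W₁ := by
        refine hhH.centralizer_le ⟨R.mul_mem (R.inv_mem (apply_mem hh _)) (hψN m).1,
          Subgroup.mem_centralizer_iff.2 fun z hz => ?_⟩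
        obtain ⟨w, rfl⟩ := hσ₁r.ge hz
        have hw : (m : Ω) * w * (m : Ω)⁻¹ ∈ W := (Subgroup.mem_normalizer_iff.1 hmW w).1 w.2
        have e1 : σ₁ ⟨_, hw⟩ = h ⟨r, hrN⟩ * σ₁ w * (h ⟨r, hrN⟩)⁻¹ := by
          show h ⟨g _, _⟩ = h _ * h ⟨g w, _⟩ * (h _)⁻¹
          rw [← map_inv, ← map_mul, ← map_mul]
          exact congrArg h (Subtype.ext (hre w hw))
        have e2 : σ₁ ⟨_, hw⟩ = ψ m * σ₁ w * (ψ m)⁻¹ := by
          rw [← hψv, ← hψv, ← map_inv, ← map_mul, ← map_mul]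
          exact congrArg ψ (Subtype.ext rfl)
        set B₁ := h ⟨r, hrN⟩ with hB₁
        calc σ₁ w * (B₁⁻¹ * ψ m) = B₁⁻¹ * (B₁ * σ₁ w * B₁⁻¹) * ψ m := by group
          _ = B₁⁻¹ * (ψ m * σ₁ w * (ψ m)⁻¹) * ψ m := by rw [← e1, e2]
          _ = B₁⁻¹ * ψ m * σ₁ w := by group
      have hW₁h : W₁ ≤ h.range := by
        rintro _ ⟨z, rfl⟩
        exact ⟨_, rfl⟩
      have h1 := h.range.mul_mem (⟨⟨r, hrN⟩, rfl⟩ : h ⟨r, hrN⟩ ∈ h.range) (hW₁h hcm)
      rwa [mul_inv_cancel_left] at h1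
    obtain ⟨η, hη, -, hηi, -⟩ := exists_inverse hh rfl
    set g' := η.comp (ψ.codRestrict h.range hψh) with hg'
    have hg'X : g' ∈ (meetSystem c).Hom M := (meetSystem c).comp_mem hψ hη hψh
    refine ih M (hlt.trans hWM) hMN ?_ g' hg'X fun x => ?_
    · have := card_lt_of_lt (hMN.trans hNS) hWM
      omega
    · rw [← hv x]
      show η ⟨ψ _, _⟩ = g _
      refine Eq.trans (congrArg η (Subtype.ext ?_)) (hηi ⟨g (Subgroup.inclusion hlt.le x), hgN _⟩
        ⟨_, rfl⟩)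
      exact hψv (Subgroup.inclusion hlt.le x)

theorem Good.isConj {c : Ctx F E D p} {U U' : Subgroup Ω} {σ : U' →* Ω} (h : Good c U U' σ) :
    σ ∈ F.Hom U' ∧ σ.range = U ∧ U' ≤ T ⊓ T' := by
  obtain ⟨h1, h2, h3, -⟩ := h
  exact ⟨h1, h2, h3⟩

/-- The two maps onto `U` differing by `φ` are simultaneously `Good`. -/
def Compat (c : Ctx F E D p) (U : Subgroup Ω) (P : Subgroup Ω) (φ : P →* Ω) : Prop :=
  ∀ (U' U'' : Subgroup Ω) (σ' : U' →* Ω) (σ'' : U'' →* Ω) (hU' : U' ≤ P),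
    (φ.comp (Subgroup.inclusion hU')).range = U'' →
    (∀ (x : U') (hx : φ (Subgroup.inclusion hU' x) ∈ U''),
      σ' x = σ'' ⟨φ (Subgroup.inclusion hU' x), hx⟩) →
    (Good c U U' σ' ↔ Good c U U'' σ'')

/-- One step: a map followed by an automorphism in the system of a subgroup containing its source. -/
theorem good_step (c : Ctx F E D p) (hk : KerBound F E D p) {U : Subgroup Ω}
    (hU : InH F (T ⊓ T') U) (htop : Top F (T ⊓ T') U) (hab : AboveGood c (Nat.card U))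
    {M U' U'' : Subgroup Ω} (hM : M ≤ T ⊓ T') {b : MulAut M}
    (hb : b ∈ (meetSystem c).autGroup M) (hbA : b ∈ meetAut F E D p M) (hU' : U' ≤ M)
    (himg : ((M.subtype.comp b.toMonoidHom).comp (Subgroup.inclusion hU')).range = U'')
    {σ' : U' →* Ω} {σ'' : U'' →* Ω}
    (hrel : ∀ (x : U') (hx : ((b (Subgroup.inclusion hU' x) : M) : Ω) ∈ U''),
      σ' x = σ'' ⟨_, hx⟩)
    (hg : Good c U U'' σ'') : Good c U U' σ' := by
  set R := T ⊓ T' with hR
  obtain ⟨hσ'', hr'', hU''R, a, ha, g, hgX, hgv⟩ := hg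
  have hU'R := hU'.trans hM
  obtain ⟨hbh, -⟩ := hom_of_mem_autGroup hM hb
  set φ := (M.subtype.comp b.toMonoidHom).comp (Subgroup.inclusion hU') with hφ
  have hφX : φ ∈ (meetSystem c).Hom U' := restrict_mem hbh hU'
  have hφm : ∀ x, φ x ∈ U'' := fun x => himg.le ⟨x, rfl⟩
  have hσ' : σ' ∈ F.Hom U' :=
    comp_mem' (meetSystem_sub c _ hφX) hσ'' hφm fun x => hrel x (hφm x)
  have hr' : σ'.range = U := by
    refine le_antisymm ?_ fun z hz => ?_
    · rintro _ ⟨x, rfl⟩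
      rw [hrel x (hφm x)]
      exact hr''.le ⟨_, rfl⟩
    · obtain ⟨⟨y, hy⟩, rfl⟩ := hr''.ge hz
      obtain ⟨x, rfl⟩ := himg.ge hy
      exact ⟨x, hrel x _⟩
  set e'' := homEquiv hσ'' hr'' with he''
  set e' := homEquiv hσ' hr' with he'
  by_cases hUM : U' = M
  · -- the automorphism is transported into `meetAut`
    subst hUM
    obtain rfl : U'' = U' := himg ▸ le_antisymm
      (by rintro _ ⟨x, rfl⟩; exact (b _).2)
      (fun y hy => ⟨b.symm ⟨y, hy⟩, congrArg Subtype.val (b.apply_symm_apply _)⟩)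
    have hc := congr_mem_meetAut c hM hσ'' hr'' hbA
    refine ⟨hσ', hr', hU'R, a * (MulAut.congr e'' b)⁻¹ * 1, ?_, g, hgX, fun x hx => ?_⟩
    · exact mul_mem (mul_mem ha (inv_mem hc)) (one_mem _)
    · rw [hgv, mul_one, MulAut.mul_apply]
      refine congrArg (fun t : U => ((a t : U) : Ω)) ?_
      refine (MulAut.congr e'' b).injective ?_
      rw [MulAut.apply_inv_self, congr_apply]
      exact Subtype.ext (hrel x (hφm x)).symm
  · -- otherwise the source grows
    have hMS := hM.trans c.le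
    have := finite_of_le (Ω := Ω) hMS
    set W := normalizerIn M U' with hW
    have hlt : U' < W := lt_normalizerIn (c.hS.to_le hMS) (lt_of_le_of_ne hU' hUM)
    have hWM : W ≤ M := normalizerIn_le M U'
    have hWN : W ≤ normalizerIn R U' := fun w hw => ⟨hM hw.1, hw.2⟩
    set φW := (M.subtype.comp b.toMonoidHom).comp (Subgroup.inclusion hWM) with hφW
    have hφWX : φW ∈ (meetSystem c).Hom W := restrict_mem hbh hWM
    have hφWN : ∀ w, φW w ∈ normalizerIn R U'' := by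
      intro w
      refine ⟨apply_mem hφWX w, ?_⟩
      have := finite_of_le (Ω := Ω) (hU''R.trans c.le)
      refine mem_normalizer_of_forall fun z hz => ?_
      obtain ⟨x, rfl⟩ := himg.ge hz
      refine himg.le ⟨⟨_, (Subgroup.mem_normalizer_iff.1 w.2.2 x).1 x.2⟩, ?_⟩
      show ((b _ : M) : Ω) = ((b _ : M) : Ω) * ((b _ : M) : Ω) * ((b _ : M) : Ω)⁻¹
      refine (congrArg (fun t : M => ((b t : M) : Ω)) (Subtype.ext rfl : _ =
        Subgroup.inclusion hWM w * Subgroup.inclusion hU' x *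
          (Subgroup.inclusion hWM w)⁻¹)).trans ?_
      simp only [map_mul, map_inv, Subgroup.coe_mul, Subgroup.coe_inv]
    set σ₁ : U' →* Ω := (U.subtype.comp a.toMonoidHom).comp e'.toMonoidHom with hσ₁
    have hσ₁v : ∀ x : U', σ₁ x = ((a (e' x) : U) : Ω) := fun x => rfl
    have haF := meetAut_le_autGroup c hU.le ha
    have hσ₁F : σ₁ ∈ F.Hom U' := aut_comp_mem hσ' hr' haF hσ₁v
    have hσ₁r : σ₁.range = U := range_eq_of_aut hσ' hr' _ hσ₁v
    obtain ⟨h1, h2, -, a₁, ha₁, g₁, hg₁, hg₁v⟩ := good_of_extension c hk hU htop hab hσ₁F hσ₁r hU'R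
      hlt hWN ((meetSystem c).comp_mem hφWX hgX hφWN) (fun x => by
        show g ⟨φW (Subgroup.inclusion hlt.le x), _⟩ = _
        refine (hgv ⟨_, hφm x⟩ _).trans ?_
        rw [hσ₁v]
        refine congrArg (fun t : U => ((a t : U) : Ω)) (Subtype.ext ?_)
        exact (hrel x (hφm x)).symm)
    refine ⟨hσ', hr', hU'R, a₁ * a, mul_mem ha₁ ha, g₁, hg₁, fun x hx => ?_⟩
    rw [hg₁v x hx]
    exact congrArg (fun t : U => ((a₁ t : U) : Ω)) (Subtype.ext rfl)

theorem compat_gen (c : Ctx F E D p) (hk : KerBound F E D p) {U : Subgroup Ω}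
    (hU : InH F (T ⊓ T') U) (htop : Top F (T ⊓ T') U) (hab : AboveGood c (Nat.card U))
    {M : Subgroup Ω} (hM : M ≤ T ⊓ T') {b : MulAut M} (hb : b ∈ (meetSystem c).autGroup M)
    (hbA : b ∈ meetAut F E D p M) : Compat c U M (M.subtype.comp b.toMonoidHom) := by
  intro U' U'' σ' σ'' hU' himg hrel
  refine ⟨fun h => ?_, fun h => good_step c hk hU htop hab hM hb hbA hU' himg hrel h⟩
  have hU''M : U'' ≤ M := by
    rw [← himg]; rintro _ ⟨x, rfl⟩; exact (b _).2
  refine good_step c hk hU htop hab hM (inv_mem hb) (inv_mem hbA) hU''M ?_ (fun y hy => ?_) h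
  · ext z
    constructor
    · rintro ⟨⟨y, hy⟩, rfl⟩
      obtain ⟨x, rfl⟩ := himg.ge hy
      show ((b⁻¹ (b (Subgroup.inclusion hU' x)) : M) : Ω) ∈ U'
      rw [MulAut.inv_apply_self]
      exact x.2
    · intro hz
      refine ⟨⟨_, himg.le ⟨⟨z, hz⟩, rfl⟩⟩, ?_⟩
      show ((b⁻¹ (b (Subgroup.inclusion hU' ⟨z, hz⟩)) : M) : Ω) = z
      rw [MulAut.inv_apply_self]
      rfl
  · obtain ⟨x, hx⟩ := himg.ge y.2
    have hbx : b (Subgroup.inclusion hU' x) = Subgroup.inclusion hU''M y := Subtype.ext hx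
    have hxe : (⟨((b⁻¹ (Subgroup.inclusion hU''M y) : M) : Ω), hy⟩ : U') = x := Subtype.ext (by
      show ((b⁻¹ (Subgroup.inclusion hU''M y) : M) : Ω) = (x : Ω)
      rw [← hbx]
      exact congrArg Subtype.val (MulAut.inv_apply_self _ b _))
    rw [hxe, hrel x (hx ▸ y.2)]
    exact congrArg σ'' (Subtype.ext hx.symm)

theorem compat_all (c : Ctx F E D p) (hk : KerBound F E D p) {U : Subgroup Ω}
    (hU : InH F (T ⊓ T') U) (htop : Top F (T ⊓ T') U) (hab : AboveGood c (Nat.card U))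
    {P : Subgroup Ω} {φ : P →* Ω} (hφ : φ ∈ (meetSystem c).Hom P) : Compat c U P φ := by
  refine meetSystem_induction c (Compat c U) ?_ ?_ ?_ ?_ hφ
  · intro P g hP hg U' U'' σ' σ'' hU' himg hrel
    have hU'R := hU'.trans hP
    have hU''R : U'' ≤ T ⊓ T' := by
      rw [← himg]; rintro _ ⟨x, rfl⟩
      exact (T ⊓ T').mul_mem ((T ⊓ T').mul_mem hg (hU'R x.2)) ((T ⊓ T').inv_mem hg)
    have := compat_gen c hk hU htop hab le_rfl (b := conjAut (Subgroup.le_normalizer hg))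
      (autInducedBy_le_autGroup _ le_rfl (conjAut_mem_autInducedBy hg _))
      (autInducedBy_le_meetAut c.le (conjAut_mem_autInducedBy hg _))
    exact this U' U'' σ' σ'' hU'R (by rw [← himg]; rfl) fun x hx => hrel x hx
  · intro P Q φ ψ hφX hψX hφC hψC h U' U'' σ' σ'' hU' himg hrel
    set U₁ := (φ.comp (Subgroup.inclusion hU')).range with hU₁
    have hU₁Q : U₁ ≤ Q := by rintro _ ⟨x, rfl⟩; exact h _
    have himg₁ : (ψ.comp (Subgroup.inclusion hU₁Q)).range = U'' := by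
      rw [← himg]
      refine le_antisymm ?_ ?_
      · rintro _ ⟨⟨_, x, rfl⟩, rfl⟩; exact ⟨x, rfl⟩
      · rintro _ ⟨x, rfl⟩; exact ⟨⟨_, x, rfl⟩, rfl⟩
    let σ₁ : U₁ →* Ω := σ''.comp ((ψ.comp (Subgroup.inclusion hU₁Q)).codRestrict U''
      fun y => himg₁.le ⟨y, rfl⟩)
    exact (hφC U' U₁ σ' σ₁ hU' rfl fun x hx =>
      hrel x (himg₁.le ⟨⟨φ (Subgroup.inclusion hU' x), hx⟩, rfl⟩)).trans
        (hψC U₁ U'' σ₁ σ'' hU₁Q himg₁ fun y hy => rfl)
  · intro P φ ψ hφX hφC hψX hi U' U'' σ' σ'' hU' himg hrel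
    have hU''P : U'' ≤ P := by
      rw [← himg]; rintro _ ⟨⟨y, hy⟩, rfl⟩
      obtain ⟨x, rfl⟩ := hU' hy
      show ψ ⟨φ x, _⟩ ∈ P
      rw [show (⟨φ x, hU' hy⟩ : φ.range) = ⟨φ x, x, rfl⟩ from rfl, hi]
      exact x.2
    have key : ∀ (y : U') (hy : ψ (Subgroup.inclusion hU' y) ∈ U''),
        φ (Subgroup.inclusion hU''P ⟨_, hy⟩) = (y : Ω) := fun y hy => by
      obtain ⟨x, hx⟩ := hU' y.2
      refine Eq.trans (congrArg φ (Subtype.ext ?_)) hx
      show ψ (Subgroup.inclusion hU' y) = x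
      rw [show Subgroup.inclusion hU' y = ⟨φ x, x, rfl⟩ from Subtype.ext hx.symm, hi]
    refine (hφC U'' U' σ'' σ' hU''P ?_ fun x hx => ?_).symm
    · ext z
      constructor
      · rintro ⟨⟨w, hw⟩, rfl⟩
        obtain ⟨y, rfl⟩ := himg.ge hw
        exact Set.mem_of_eq_of_mem (key y _) y.2
      · intro hz
        exact ⟨⟨_, himg.le ⟨⟨z, hz⟩, rfl⟩⟩, key ⟨z, hz⟩ _⟩
    · obtain ⟨y, hy⟩ := himg.ge x.2
      have hy' : ψ (Subgroup.inclusion hU' y) = x := hy
      have hyx : (⟨φ (Subgroup.inclusion hU''P x), hx⟩ : U') = y := Subtype.ext (by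
        rw [← key y (hy'.symm ▸ x.2)]
        exact congrArg φ (Subtype.ext hy'.symm))
      rw [hyx, hrel y (hy'.symm ▸ x.2)]
      exact congrArg σ'' (Subtype.ext hy'.symm)
  · intro M hM a ha hc
    exact compat_gen c hk hU htop hab hM.le
      ((mem_autGroup_iff hM.le).2 (large_meetSystem c M hM a ha hc))
      (mem_meetAut_coprime ha hc)

/-- Every map of the system onto a `Top` subgroup is `Good`. -/
theorem good_of_mem (c : Ctx F E D p) (hk : KerBound F E D p) {U : Subgroup Ω}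
    (hU : InH F (T ⊓ T') U) (htop : Top F (T ⊓ T') U) {U' : Subgroup Ω} {σ : U' →* Ω}
    (hσ : σ ∈ (meetSystem c).Hom U') (hr : σ.range = U) : Good c U U' σ := by
  induction hn : Nat.card S - Nat.card U using Nat.strong_induction_on
    generalizing U U' σ with
  | _ n IH =>
  have hab : AboveGood c (Nat.card U) := by
    intro W hW hWtop hlt W' τ hτ hτr
    refine IH _ ?_ hW hWtop hτ hτr rfl
    have := card_le_of_le (S := S) le_rfl (hW.le.trans c.le)
    omega
  have hid : Good c U U U.subtype := by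
    have hN : normalizerIn (T ⊓ T') U ≤ T ⊓ T' := normalizerIn_le _ _
    refine ⟨subtype_mem F (hU.le.trans c.le), Subgroup.range_subtype U, hU.le, 1, one_mem _, _,
      subtype_mem _ hN, fun x hx => rfl⟩
  refine (compat_all c hk hU htop hab hσ U' U σ U.subtype le_rfl ?_ fun x hx => rfl).2 hid
  rw [← hr]
  rfl

/-- The automorphism groups of the system lie in `meetAut`. -/
theorem autGroup_meetSystem_eq (c : Ctx F E D p) (hk : KerBound F E D p) {U : Subgroup Ω}
    (hU : InH F (T ⊓ T') U) : (meetSystem c).autGroup U = meetAut F E D p U := by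
  refine le_antisymm ?_ (meetAut_le_autGroup_meetSystem c hk hU)
  induction hn : Nat.card S - Nat.card U using Nat.strong_induction_on generalizing U with
  | _ n IH =>
  set R := T ⊓ T' with hR
  by_cases hUR : U = R
  · subst hUR
    exact autGroup_top_le c
  -- it suffices at a `Top` conjugate
  obtain ⟨hN, h, hh, -, htop, hH⟩ :=
    exists_reach_of_frattini c hU fun _ hψ => frattiniOn_meetSystem c hk hψ
  have h₁ := restrict_mem hh hN
  have h₁F : h.comp (Subgroup.inclusion hN) ∈ F.Hom U := meetSystem_sub c U h₁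
  set U₁ := (h.comp (Subgroup.inclusion hN)).range with hU₁
  have hU₁ne : U₁ ≠ R := fun he => hUR (by
    have : Finite R := finite_of_le (Ω := Ω) c.le
    refine Subgroup.eq_of_le_of_card_ge hU.le ?_
    rw [← card_range h₁, ← he])
  have hlt : U₁ < normalizerIn R U₁ :=
    have : Finite R := finite_of_le (Ω := Ω) c.le
    lt_normalizerIn (c.hS.to_le c.le) (lt_of_le_of_ne hH.le hU₁ne)
  have hNR : normalizerIn R U₁ ≤ R := normalizerIn_le _ _
  have key : (meetSystem c).autGroup U₁ ≤ meetAut F E D p U₁ := by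
    intro β hβ
    obtain ⟨hβh, hβr⟩ := hom_of_mem_autGroup hH.le hβ
    obtain ⟨hσ, hr, -, a, ha, g, hg, hgv⟩ := good_of_mem c hk hH htop hβh hβr
    have hgm : ∀ x, g x ∈ normalizerIn R U₁ := by
      intro x
      refine ⟨apply_mem hg x, ?_⟩
      have := finite_of_le (Ω := Ω) (hH.le.trans c.le)
      refine mem_normalizer_of_forall fun z hz => ?_
      obtain ⟨y, hy⟩ := a.surjective ⟨z, hz⟩
      obtain ⟨u, rfl⟩ := (homEquiv hσ hr).surjective y
      obtain rfl : ((a (homEquiv hσ hr u) : U₁) : Ω) = z := congrArg Subtype.val hy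
      have hu : (x : Ω) * u * (x : Ω)⁻¹ ∈ U₁ := (Subgroup.mem_normalizer_iff.1 x.2.2 u).1 u.2
      rw [← hgv u (hlt.le u.2), ← map_inv, ← map_mul, ← map_mul,
        show x * ⟨(u : Ω), hlt.le u.2⟩ * x⁻¹ = ⟨_, hlt.le hu⟩ from Subtype.ext rfl,
        hgv ⟨_, hu⟩ _]
      exact (a _).2
    have : Finite R := finite_of_le (Ω := Ω) c.le
    have hgr : g.range = normalizerIn R U₁ := range_eq_of_le hg hNR hgm le_rfl
    have hcard : Nat.card S - Nat.card (normalizerIn R U₁) < n := by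
      have h1 := card_lt_of_lt (hNR.trans c.le) hlt
      have h2 : Nat.card U₁ = Nat.card U := card_range h₁
      have h3 := card_le_of_le (S := S) le_rfl (hNR.trans c.le)
      omega
    have hgA := IH _ hcard (hH.mono hlt.le hNR) rfl (toAut_mem hg hgr)
    have h4 : a * toAut hβh hβr ∈ meetAut F E D p U₁ := by
      refine restrict_mem_meetAut c hk hNR hlt.le hgA fun x => ?_
      rw [coe_toAut]
      exact (hgv x (hlt.le x.2)).symm
    have h5 := mul_mem (inv_mem ha) h4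
    rwa [inv_mul_cancel_left,
      show toAut hβh hβr = β from MulEquiv.ext fun x => Subtype.ext rfl] at h5
  intro β hβ
  have h2 := key (congr_mem_autGroup h₁ rfl hβ)
  obtain ⟨η, hη, hηr, hηi, -⟩ := exists_inverse h₁F (rfl : _ = U₁)
  have h3 := congr_mem_meetAut c hH.le hη hηr h2
  convert h3 using 1
  refine MulEquiv.ext fun x => ?_
  set e := homEquiv h₁ (rfl : _ = U₁) with he
  have hy : ∀ z : U, homEquiv hη hηr (e z) = z := fun z => Subtype.ext (hηi z (e z).2)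
  conv_rhs => rw [← hy x, congr_apply, congr_apply, hy]

/-- The system is saturated. -/
theorem isSaturated_meetSystem (c : Ctx F E D p) (hk : KerBound F E D p) :
    (meetSystem c).IsSaturated p := by
  set R := T ⊓ T' with hR
  have : Finite R := finite_of_le (Ω := Ω) c.le
  have hX := meetSystem_sub c
  refine Criterion.isSaturated (c.hS.to_le c.le) {U | InH F R U}
    (fun U hU Q hQ => ?_) (fun U hU => ?_) (fun X₀ hX₀ P φ hφ => ?_) (fun P hPc hP => ?_)
  · obtain ⟨φ, hφ, hr⟩ := hQ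
    exact InH.image hU (hX U hφ) hr
  · obtain ⟨hN, h, hh, -, htop, hH⟩ :=
      exists_reach_of_frattini c hU fun _ hψ => frattiniOn_meetSystem c hk hψ
    set U₁ := (h.comp (Subgroup.inclusion hN)).range with hU₁
    refine ⟨U₁, ⟨_, restrict_mem hh hN, rfl⟩, ⟨hH.le, ?_⟩, hH.le, fun Q φ hφ hr => ?_⟩
    · have hU₁S := hH.le.trans c.le
      have := finite_mulAut (Ω := Ω) hU₁S
      have hle := autInducedBy_le_autGroup (meetSystem c) hH.le
      have hpg : IsPGroup p ((autInducedBy R U₁).subgroupOf ((meetSystem c).autGroup U₁)) :=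
        (isPGroup_autInducedBy (c.hS.to_le c.le) U₁).of_equiv
          (Subgroup.subgroupOfEquivOfLe hle).symm
      obtain ⟨W, hW⟩ := hpg.exists_le_sylow
      refine ⟨W, le_antisymm (fun w hw => ?_) hW⟩
      exact sylR_of_top c hk htop _ (W.isPGroup'.map _) (fun b hb => ⟨⟨b, hle hb⟩, hW hb, rfl⟩)
        ((Subgroup.map_subtype_le _).trans (autGroup_meetSystem_eq c hk hH).le) ⟨w, hw, rfl⟩
    · have hg := good_of_mem c hk hH htop hφ hr
      have hQR : Q ≤ R := dom_le hφ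
      obtain ⟨ψ, hψ, -, hv⟩ := hg.extend hk hH htop (le_extender hQR fun x => apply_mem hφ x)
        (extender_le R Q φ) fun m hm => by
          obtain ⟨-, -, r, hr', he⟩ := mem_extender_iff.1 hm
          exact ⟨r, hr', he⟩
      exact ⟨ψ, hψ, fun x hP hN' => hv ⟨x, hP⟩⟩
  · exact hφ.2 X₀ fun M hM a ha hc => hX₀ M hM (large_meetSystem c M hM a ha hc)
  · refine absurd ⟨hPc.1, c.le, c.closed, fun Q hQ => ?_⟩ hP
    obtain ⟨φ, hφ, rfl⟩ := hQ
    obtain ⟨α, hα, φ₀, hφ₀, he⟩ :=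
      frattiniOn_meetSystem c hk hφ P le_rfl hPc.1
    intro y hy
    have hyR : y ∈ R := hy.1
    have h1 : ((α⁻¹ ⟨y, hyR⟩ : R) : Ω) ∈ φ₀.range := by
      refine hPc.2 _ ⟨φ₀, hφ₀, rfl⟩ ⟨(α⁻¹ _).2, Subgroup.mem_centralizer_iff.2 ?_⟩
      rintro _ ⟨x, rfl⟩
      have hx := apply_mem hφ₀ x
      have hcomm := hy.2 (φ x) ⟨x, rfl⟩
      rw [show φ x = ((α ⟨φ₀ x, hx⟩ : R) : Ω) from he x hx] at hcomm
      have h2 : α ⟨φ₀ x, hx⟩ * ⟨y, hyR⟩ = ⟨y, hyR⟩ * α ⟨φ₀ x, hx⟩ := Subtype.ext hcomm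
      have h3 := congrArg (fun t : R => ((α⁻¹ t : R) : Ω)) h2
      simpa using h3
    obtain ⟨x, hx⟩ := h1
    refine ⟨x, ?_⟩
    have h4 : (⟨φ₀ x, apply_mem hφ₀ x⟩ : R) = α⁻¹ ⟨y, hyR⟩ := Subtype.ext hx
    refine (he x (apply_mem hφ₀ x)).trans ?_
    rw [h4, MulAut.apply_inv_self]

end Cfsg.Agent.Fusion.Meet
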