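import Cfsg.Agent.Lib.Fusion.Meet.Kernel
import Cfsg.Agent.Lib.Fusion.Meet.Bound
import Cfsg.Agent.Lib.Fusion.ResidualNormal
import Cfsg.Agent.Lib.Fusion.PrimeQuotient
import Cfsg.Agent.Lib.Fusion.ProductFactor

/-!
The intersection of two normal subsystems: the saturated system `meetSystem` is weakly normal in
the three systems and contains every weakly normal candidate; the extension conditions cut out the
greatest normal one.
-/

set_option autoImplicit false
set_option linter.unusedSectionVars false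

namespace Cfsg.Agent.Fusion.Meet

open Cfsg Cfsg.FusionSystem Cfsg.Agent.Fusion

universe u

variable {Ω : Type u} [Group Ω] {S T T' : Subgroup Ω} {F : FusionSystem S} {E : FusionSystem T}
  {D : FusionSystem T'} {p : ℕ}

/-! ### The extension condition -/

/-- The automorphisms of `R` satisfying the extension condition in `G`. -/
def extAut {V : Subgroup Ω} (G : FusionSystem V) (R : Subgroup Ω) : Subgroup (MulAut R) where
  carrier := {α | ∃ β ∈ G.autGroup (R ⊔ centralizerIn V R),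
    (∀ x : R, ((β (Subgroup.inclusion le_sup_left x) : ↥(R ⊔ centralizerIn V R)) : Ω) =
      ((α x : R) : Ω)) ∧
    ∀ c : ↥(R ⊔ centralizerIn V R), (c : Ω) ∈ centralizerIn V R →
      (c : Ω)⁻¹ * ((β c : ↥(R ⊔ centralizerIn V R)) : Ω) ∈ R ⊓ Subgroup.centralizer (R : Set Ω)}
  one_mem' := ⟨1, one_mem _, fun _ => rfl, fun c _ => by
    simp [one_mem]⟩
  mul_mem' := by
    rintro a₁ a₂ ⟨β₁, hβ₁, he₁, hc₁⟩ ⟨β₂, hβ₂, he₂, hc₂⟩
    refine ⟨β₁ * β₂, mul_mem hβ₁ hβ₂, fun x => ?_, fun c hc => ?_⟩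
    · rw [MulAut.mul_apply, show β₂ (Subgroup.inclusion le_sup_left x) =
        Subgroup.inclusion le_sup_left (a₂ x) from Subtype.ext (he₂ x), he₁]
      rfl
    · obtain ⟨hzR, hzC⟩ := hc₂ c hc
      set z : R := ⟨_, hzR⟩ with hz
      have h1 : β₂ c = c * Subgroup.inclusion le_sup_left z :=
        Subtype.ext (mul_inv_cancel_left (c : Ω) _).symm
      rw [MulAut.mul_apply, h1, map_mul, Subgroup.coe_mul, he₁, ← mul_assoc]
      refine mul_mem (hc₁ c hc) ⟨(a₁ z).2, Subgroup.mem_centralizer_iff.2 fun r hr => ?_⟩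
      obtain ⟨r₀, hr₀⟩ := a₁.surjective ⟨r, hr⟩
      have hcm : r₀ * z = z * r₀ :=
        Subtype.ext (Subgroup.mem_centralizer_iff.1 hzC (r₀ : Ω) r₀.2)
      have h2 := congrArg Subtype.val (congrArg a₁ hcm)
      rw [map_mul, map_mul, hr₀] at h2
      exact h2
  inv_mem' := by
    rintro a ⟨β, hβ, he, hc⟩
    refine ⟨β⁻¹, inv_mem hβ, fun x => ?_, fun c hcC => ?_⟩
    · have h1 : β (Subgroup.inclusion le_sup_left (a⁻¹ x)) = Subgroup.inclusion le_sup_left x :=
        Subtype.ext ((he (a⁻¹ x)).trans (congrArg Subtype.val (MulAut.apply_inv_self _ a x)))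
      rw [← h1, MulAut.inv_apply_self]
      rfl
    · obtain ⟨hzR, hzC⟩ := hc c hcC
      set z : R := ⟨_, hzR⟩ with hz
      have h1 : β c = c * Subgroup.inclusion le_sup_left z :=
        Subtype.ext (mul_inv_cancel_left (c : Ω) _).symm
      have h3 : β⁻¹ (Subgroup.inclusion le_sup_left z) = Subgroup.inclusion le_sup_left (a⁻¹ z) := by
        have : β (Subgroup.inclusion le_sup_left (a⁻¹ z)) = Subgroup.inclusion le_sup_left z :=
          Subtype.ext ((he (a⁻¹ z)).trans (congrArg Subtype.val (MulAut.apply_inv_self _ a z)))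
        rw [← this, MulAut.inv_apply_self]
      have h4 : β⁻¹ c = c * (Subgroup.inclusion le_sup_left (a⁻¹ z))⁻¹ := by
        rw [eq_mul_inv_iff_mul_eq, ← h3, ← map_mul, ← h1, MulAut.inv_apply_self]
      rw [h4, Subgroup.coe_mul, inv_mul_cancel_left]
      refine inv_mem ⟨(a⁻¹ z).2, Subgroup.mem_centralizer_iff.2 fun r hr => ?_⟩
      obtain ⟨r₀, hr₀⟩ := a⁻¹.surjective ⟨r, hr⟩
      have hcm : r₀ * z = z * r₀ :=
        Subtype.ext (Subgroup.mem_centralizer_iff.1 hzC (r₀ : Ω) r₀.2)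
      have h2 := congrArg Subtype.val (congrArg (fun w : R => a⁻¹ w) hcm)
      simp only [map_mul, hr₀] at h2
      exact h2

theorem inner_le_extAut {V : Subgroup Ω} (G : FusionSystem V) {R : Subgroup Ω} (hR : R ≤ V) :
    autInducedBy R R ≤ extAut G R := by
  intro a ha
  obtain ⟨g, hg, he⟩ := mem_autInducedBy_iff.1 ha
  have hW : R ⊔ centralizerIn V R ≤ V := sup_le hR (centralizerIn_le V R)
  have hgW : g ∈ Subgroup.normalizer ((R ⊔ centralizerIn V R : Subgroup Ω) : Set Ω) :=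
    Subgroup.le_normalizer (Subgroup.mem_sup_left hg)
  refine ⟨conjAut hgW, autInducedBy_le_autGroup G hW (conjAut_mem_autInducedBy (hR hg) hgW),
    fun x => (he x).symm, fun c hc => ?_⟩
  show (c : Ω)⁻¹ * (g * c * g⁻¹) ∈ _
  rw [(mem_centralizerIn.1 hc).2 g hg, mul_inv_cancel_right, inv_mul_cancel]
  exact one_mem _

variable [Finite S] [Fact p.Prime]

theorem extAut_conj (hS : IsPGroup p S) (hF : F.IsSaturated p) {V : Subgroup Ω}
    (hV : F.StronglyClosed V) {R : Subgroup Ω} (hR : F.StronglyClosed R) (hRV : R ≤ V)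
    {G : FusionSystem V}
    (hcongr : ∀ (P P' : Subgroup Ω), P ≤ V → ∀ (φ : P →* Ω) (hφ : φ ∈ F.Hom P) (hr : φ.range = P')
      (x : MulAut P), x ∈ G.autGroup P → MulAut.congr (homEquiv hφ hr) x ∈ G.autGroup P')
    {d : MulAut R} (hd : d ∈ F.autGroup R) {a : MulAut R} (ha : a ∈ extAut G R) :
    d * a * d⁻¹ ∈ extAut G R := by
  obtain ⟨β, hβ, he, hc⟩ := ha
  let W := R ⊔ centralizerIn V R
  have hWV : W ≤ V := sup_le hRV (centralizerIn_le V R)
  obtain ⟨hdF, hdr⟩ := hom_of_mem_autGroup hR.1 hd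
  have hCV : centralizerIn V R ≤ centralizerIn S R := inf_le_inf_right _ hV.1
  have hext : W ≤ extender S R (R.subtype.comp d.toMonoidHom) :=
    sup_le (le_extender hR.1 fun x => hR.1 (d x).2) (hCV.trans (centralizerIn_le_extender _))
  obtain ⟨ψ, hψ, hψe⟩ := exists_extension (isReceptive_of_fullyNormalized hS hF
    (isFullyNormalized_of_stronglyClosed hR)) hdF hdr hext
  have hψR : ∀ x : R, ψ (Subgroup.inclusion le_sup_left x) = ((d x : R) : Ω) := fun x =>
    hψe x x.2 (Subgroup.mem_sup_left x.2)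
  have hWS : W ≤ S := hWV.trans hV.1
  have := finite_of_le (Ω := Ω) hWS
  have hψC : ∀ (x : W), (x : Ω) ∈ centralizerIn V R → ψ x ∈ centralizerIn V R := by
    intro x hx
    refine mem_centralizerIn.2 ⟨hV.2 W hWV ψ hψ x, fun r hr => ?_⟩
    obtain ⟨r₀, hr₀⟩ := d.surjective ⟨r, hr⟩
    have h1 : Subgroup.inclusion le_sup_left r₀ * x = x * Subgroup.inclusion le_sup_left r₀ :=
      Subtype.ext ((mem_centralizerIn.1 hx).2 r₀ r₀.2)
    have h2 := congrArg ψ h1
    rw [map_mul, map_mul, hψR, hr₀] at h2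
    exact h2
  have hr : ψ.range = W := range_eq_of_le hψ hWS
    (forall_sup_mem ψ (fun x => Subgroup.mem_sup_left (by rw [hψR]; exact (d x).2))
      (fun x => Subgroup.mem_sup_right (hψC _ x.2))) le_rfl
  refine ⟨MulAut.congr (homEquiv hψ hr) β, hcongr W W hWV ψ hψ hr β hβ, fun x => ?_,
    fun c hcC => ?_⟩
  · have h1 : homEquiv hψ hr (Subgroup.inclusion le_sup_left (d⁻¹ x)) =
        Subgroup.inclusion le_sup_left x :=
      Subtype.ext ((hψR (d⁻¹ x)).trans (congrArg Subtype.val (MulAut.apply_inv_self _ d x)))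
    rw [← h1, congr_apply, show β (Subgroup.inclusion le_sup_left (d⁻¹ x)) =
      Subgroup.inclusion le_sup_left (a (d⁻¹ x)) from Subtype.ext (he _), coe_homEquiv]
    exact hψR _
  · obtain ⟨c₀, rfl⟩ := (homEquiv hψ hr).surjective c
    have hc₀ : (c₀ : Ω) ∈ centralizerIn V R := by
      refine mem_centralizerIn.2 ⟨hWV c₀.2, fun r hr' => ?_⟩
      have h1 := (mem_centralizerIn.1 hcC).2 _ (d ⟨r, hr'⟩).2
      rw [coe_homEquiv, ← hψR, ← map_mul, ← map_mul] at h1
      exact congrArg Subtype.val (F.injective_of_mem hψ h1)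
    obtain ⟨hzR, hzC⟩ := hc c₀ hc₀
    set z : R := ⟨_, hzR⟩ with hz
    have h1 : β c₀ = c₀ * Subgroup.inclusion le_sup_left z :=
      Subtype.ext (mul_inv_cancel_left (c₀ : Ω) _).symm
    rw [congr_apply, h1, map_mul, Subgroup.coe_mul, inv_mul_cancel_left, coe_homEquiv, hψR]
    refine ⟨(d z).2, Subgroup.mem_centralizer_iff.2 fun r hr' => ?_⟩
    obtain ⟨r₀, hr₀⟩ := d.surjective ⟨r, hr'⟩
    have h2 := congrArg Subtype.val (congrArg d
      (Subtype.ext (Subgroup.mem_centralizer_iff.1 hzC (r₀ : Ω) r₀.2) : r₀ * z = z * r₀))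
    rw [map_mul, map_mul, hr₀] at h2
    exact h2

theorem extAut_conj_self (hS : IsPGroup p S) (hF : F.IsSaturated p) {R : Subgroup Ω}
    (hR : F.StronglyClosed R) {d : MulAut R} (hd : d ∈ F.autGroup R) {a : MulAut R}
    (ha : a ∈ extAut F R) : d * a * d⁻¹ ∈ extAut F R :=
  extAut_conj hS hF (stronglyClosed_self F) hR hR.1
    (fun _ _ _ _ hφ hr _ hx => congr_mem_autGroup hφ hr hx) hd ha

theorem extAut_conj_sub (hS : IsPGroup p S) (hF : F.IsSaturated p) (hE : E.IsInvariantIn F)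
    {R : Subgroup Ω} (hR : F.StronglyClosed R) (hRT : R ≤ T) {d : MulAut R}
    (hd : d ∈ F.autGroup R) {a : MulAut R} (ha : a ∈ extAut E R) :
    d * a * d⁻¹ ∈ extAut E R :=
  extAut_conj hS hF hE.2.1 hR hRT
    (fun _ _ hP _ hφ hr _ hx => NormalExtensions.congr_mem_E hE hP hφ hr hx) hd ha

/-! ### Weak normality -/

theorem stronglyClosed_sub {R : Subgroup Ω} (hsub : E.IsSubsystemOf F) (hR : F.StronglyClosed R)
    (hRT : R ≤ T) : E.StronglyClosed R :=
  ⟨hRT, fun Q hQ φ hφ x => hR.2 Q hQ φ (hsub Q hφ) x⟩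

theorem isWeaklyNormalIn_meetSystem (c : Ctx F E D p) :
    (meetSystem c).IsWeaklyNormalIn F p :=
  ⟨isSaturated_meetSystem c (kerBound c), c.hF, isInvariantIn_meetSystem c (kerBound c)⟩

theorem stronglyInvariant_restrict {R : Subgroup Ω} {X : FusionSystem R}
    (h : StronglyInvariant X F) (hsub : E.IsSubsystemOf F) : StronglyInvariant X E :=
  fun P Q hPQ hQ φ hφ hφQ ψ hψ => h P Q hPQ hQ φ hφ hφQ ψ (hsub Q hψ)

theorem isWeaklyNormalIn_meetSystem_left (c : Ctx F E D p) :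
    (meetSystem c).IsWeaklyNormalIn E p := by
  have := finite_of_le (Ω := Ω) c.closedE.1
  refine ⟨isSaturated_meetSystem c (kerBound c), c.hE.1.1, ?_⟩
  exact isInvariantIn_of_stronglyInvariant (c.hS.to_le c.closedE.1) c.hE.1.1
    (fun P φ hφ => (meetSystem_le c hφ).2.1) (stronglyClosed_sub c.invE.1 c.closed inf_le_left)
    (stronglyInvariant_restrict (stronglyInvariant_of_invariant
      (isInvariantIn_meetSystem c (kerBound c))) c.invE.1)

theorem isWeaklyNormalIn_meetSystem_right (c : Ctx F E D p) :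
    (meetSystem c).IsWeaklyNormalIn D p := by
  have := finite_of_le (Ω := Ω) c.closedD.1
  refine ⟨isSaturated_meetSystem c (kerBound c), c.hD.1.1, ?_⟩
  exact isInvariantIn_of_stronglyInvariant (c.hS.to_le c.closedD.1) c.hD.1.1
    (fun P φ hφ => (meetSystem_le c hφ).2.2) (stronglyClosed_sub c.invD.1 c.closed inf_le_right)
    (stronglyInvariant_restrict (stronglyInvariant_of_invariant
      (isInvariantIn_meetSystem c (kerBound c))) c.invD.1)

/-- An automorphism of `p`-power order in a candidate lies in `meetAut`. -/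
theorem pElement_mem_meetAut (c : Ctx F E D p) {X : FusionSystem (T ⊓ T')}
    (hX : X.IsWeaklyNormalIn F p) {P : Subgroup Ω} (hP : P ≤ T ⊓ T') {γ : MulAut P}
    (hγ : γ ∈ X.autGroup P) {k : ℕ} (hk : γ ^ p ^ k = 1) : γ ∈ meetAut F E D p P := by
  have := finite_of_le (Ω := Ω) c.le
  obtain ⟨θ, hθ, g, hg, hθg⟩ := exists_conj_of_pElement (c.hS.to_le c.le) hX.1 hP hγ hk
  obtain ⟨η, hη, hηr, hηi, -⟩ := exists_inverse (hX.2.2.1 P hθ) (rfl : θ.range = θ.range)
  have := finite_of_le (Ω := Ω) ((range_le hθ).trans c.le)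
  have hgn : g ∈ Subgroup.normalizer (θ.range : Set Ω) :=
    mem_normalizer_of_forall fun z hz => by
      obtain ⟨x, rfl⟩ := hz
      exact ⟨γ x, hθg x⟩
  have h1 := mem_meetAut_congr (E := E) (D := D) (p := p) hη hηr
    (conjAut_mem_autInducedBy hg hgn)
  have he : MulAut.congr (homEquiv hη hηr) (conjAut hgn) = γ := by
    refine MulEquiv.ext fun x => ?_
    have hy : ∀ y : P, homEquiv hη hηr (⟨θ y, y, rfl⟩ : θ.range) = y := fun y =>
      Subtype.ext (hηi y _)
    rw [← hy x, congr_apply]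
    rw [show conjAut hgn (⟨θ x, x, rfl⟩ : θ.range) = ⟨θ (γ x), γ x, rfl⟩ from
      Subtype.ext (hθg x).symm, hy, hy]
  rwa [he] at h1

theorem inH_of_centric (c : Ctx F E D p) {X : FusionSystem (T ⊓ T')}
    (hX : X.IsWeaklyNormalIn F p) {P : Subgroup Ω} (hP : X.IsCentric P) :
    InH F (T ⊓ T') P := by
  refine ⟨hP.1, c.le, c.closed, ?_⟩
  rintro P' ⟨φ, hφ, rfl⟩
  exact isCentric_centralizerIn_le ((SameBase.relData_top hX).isCentric_image hP hφ)

/-- Every weakly normal candidate lies in `meetSystem`. -/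
theorem le_meetSystem (c : Ctx F E D p) {X : FusionSystem (T ⊓ T')}
    (hX : X.IsWeaklyNormalIn F p) (hXE : X.IsSubsystemOf E) (hXD : X.IsSubsystemOf D) :
    X.IsSubsystemOf (meetSystem c) := by
  have := finite_of_le (Ω := Ω) c.le
  have hRp := c.hS.to_le c.le
  have hk := kerBound c
  have hlarge : IsLargeOnCentric (meetSystem c) X p := by
    intro P hP
    rw [Subgroup.map_le_iff_le_comap]
    refine (Subgroup.closure_le _).2 fun γ ⟨k, hγk⟩ => ?_
    refine meetAut_le_autGroup_meetSystem c hk (inH_of_centric c hX hP)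
      (pElement_mem_meetAut c hX hP.1 γ.2 (k := k) ?_)
    show (γ : MulAut P) ^ p ^ k = 1
    rw [← SubgroupClass.coe_pow, ← hγk, pow_orderOf_eq_one]
    rfl
  intro P φ hφ
  obtain ⟨β, hβ, φ₀, hφ₀, he⟩ :=
    frattini_minimalPrimeToP hRp hX.1 hφ P le_rfl (dom_le hφ)
  have hH := inH_of_centric c hX (isCentric_self X)
  have hβm : β ∈ meetAut F E D p (T ⊓ T') := by
    have := finite_mulAut (Ω := Ω) c.le
    obtain ⟨e, m, hm, hord⟩ := Nat.exists_eq_pow_mul_and_not_dvd (orderOf_pos β).ne' p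
      (Fact.out : p.Prime).ne_one
    refine SameBase.mem_of_pow_coprime _ (a := m) (b := p ^ e)
      (((Fact.out : p.Prime).coprime_iff_not_dvd.2 hm).symm.pow_right e)
      (pElement_mem_meetAut c hX le_rfl (pow_mem hβ m) (k := e)
        (by rw [← pow_mul, mul_comm, ← hord, pow_orderOf_eq_one])) ?_
    refine mem_meetAut_coprime ⟨?_, ?_⟩ ?_
    · exact pow_mem (autGroup_le_of_subsystem hXE le_rfl hβ) _
    · exact pow_mem (autGroup_le_of_subsystem hXD le_rfl hβ) _
    · rw [orderOf_pow, hord,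
        Nat.gcd_eq_right (dvd_mul_right (p ^ e) m),
        Nat.mul_div_cancel_left _ (pow_pos (Fact.out : p.Prime).pos e)]
      exact ((Fact.out : p.Prime).coprime_iff_not_dvd.2 hm).symm
  exact comp_mem' (minimalPrimeToP_le hlarge P hφ₀)
    ((mem_autGroup_iff le_rfl).1 (meetAut_le_autGroup_meetSystem c hk hH hβm)) (apply_mem hφ₀)
    fun x => he x _

/-! ### The greatest normal candidate -/

/-- The automorphisms of `T ⊓ T'` satisfying the three extension conditions. -/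
def topAut (c : Ctx F E D p) : Subgroup (MulAut ↥(T ⊓ T')) :=
  (meetSystem c).autGroup (T ⊓ T') ⊓ extAut F (T ⊓ T') ⊓ extAut E (T ⊓ T') ⊓ extAut D (T ⊓ T')

theorem topAut_conj (c : Ctx F E D p) {d : MulAut ↥(T ⊓ T')} (hd : d ∈ F.autGroup (T ⊓ T'))
    {a : MulAut ↥(T ⊓ T')} (ha : a ∈ topAut c) : d * a * d⁻¹ ∈ topAut c := by
  obtain ⟨⟨⟨h₀, h₁⟩, h₂⟩, h₃⟩ := ha
  exact ⟨⟨⟨conj_mem_autGroup_of_invariant (isInvariantIn_meetSystem c (kerBound c)) le_rfl hd h₀,
    extAut_conj_self c.hS c.hF c.closed hd h₁⟩,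
    extAut_conj_sub c.hS c.hF c.invE c.closed inf_le_left hd h₂⟩,
    extAut_conj_sub c.hS c.hF c.invD c.closed inf_le_right hd h₃⟩

/-- The residual of `meetSystem`. -/
def core (c : Ctx F E D p) : FusionSystem (T ⊓ T') :=
  haveI : Finite ↥(T ⊓ T') := finite_of_le c.le
  PPrimeResidual.residual (meetSystem c) p

theorem relData (c : Ctx F E D p) : RelData (meetSystem c) (core c) p (topAut c) := by
  have := finite_of_le (Ω := Ω) c.le
  have hRp := c.hS.to_le c.le
  have hXsat := isSaturated_meetSystem c (kerBound c)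
  have hN := PPrimeResidual.isNormalIn_residual hRp hXsat
  refine ⟨hN.1.2.2.1, hN.1.2.2.2.1, hN.1.2.2.2.2.1, hN.1.2.2.2.2.2, hN.1.1, hXsat,
    fun a ha => ha.1.1.1, fun d hd a ha => ?_, fun a ha k hk => ?_, fun a ha => ?_⟩
  · exact topAut_conj c (autGroup_le_of_subsystem (meetSystem_sub c) le_rfl hd) ha
  · obtain ⟨θ, hθ, g, hg, hθg⟩ := exists_conj_of_pElement hRp hXsat le_rfl ha hk
    have hr : θ.range = T ⊓ T' := range_eq_of_le hθ le_rfl (apply_mem hθ) le_rfl
    obtain ⟨g₀, hg₀⟩ := hr.ge hg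
    have hai : a ∈ autInducedBy (T ⊓ T') (T ⊓ T') := by
      refine mem_autInducedBy_iff.2 ⟨g₀, g₀.2, fun x => ?_⟩
      have h1 : θ (a x) = θ (g₀ * x * g₀⁻¹) := by
        rw [map_mul, map_mul, map_inv, hg₀, hθg]
      exact congrArg Subtype.val ((meetSystem c).injective_of_mem hθ h1)
    exact ⟨⟨⟨ha, inner_le_extAut F c.le hai⟩, inner_le_extAut E inf_le_left hai⟩,
      inner_le_extAut D inf_le_right hai⟩
  · have h₁ := ResidualNormal.isNormalIn_residual c.hS (isWeaklyNormalIn_meetSystem c)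
    have : Finite T := finite_of_le c.closedE.1
    have : Finite T' := finite_of_le c.closedD.1
    have h₂ := ResidualNormal.isNormalIn_residual (c.hS.to_le c.closedE.1)
      (isWeaklyNormalIn_meetSystem_left c)
    have h₃ := ResidualNormal.isNormalIn_residual (c.hS.to_le c.closedD.1)
      (isWeaklyNormalIn_meetSystem_right c)
    exact ⟨⟨⟨autGroup_le_of_subsystem hN.1.2.2.1 le_rfl ha, h₁.2 a ha⟩, h₂.2 a ha⟩, h₃.2 a ha⟩

/-- The greatest normal subsystem in `E` and `D`. -/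
def meetNormal (c : Ctx F E D p) : FusionSystem (T ⊓ T') :=
  haveI : Finite ↥(T ⊓ T') := finite_of_le c.le
  (relData c).quotSystem (c.hS.to_le c.le)

theorem mem_topAut_of_meetNormal (c : Ctx F E D p) {α : MulAut ↥(T ⊓ T')}
    (hα : α ∈ (meetNormal c).autGroup (T ⊓ T')) : α ∈ topAut c := by
  have := finite_of_le (Ω := Ω) c.le
  obtain ⟨-, β, hβ, hv⟩ := ((relData c).mem_autGroup_quot_iff (c.hS.to_le c.le) α).1 hα
  rwa [show α = β from MulEquiv.ext fun x => Subtype.ext (hv x).symm]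

theorem isNormalIn_meetNormal_of {V : Subgroup Ω} {G : FusionSystem V} (c : Ctx F E D p)
    (hV : IsPGroup p V) [Finite V] (hX : (meetSystem c).IsWeaklyNormalIn G p)
    (hG : G.IsSubsystemOf F) (hext : topAut c ≤ extAut G (T ⊓ T')) :
    (meetNormal c).IsNormalIn G p := by
  have := finite_of_le (Ω := Ω) c.le
  have hRp := c.hS.to_le c.le
  have h := relData c
  have hN := ResidualNormal.isNormalIn_residual hV hX
  have hsat : (meetNormal c).IsSaturated p :=
    h.isSaturated_quot hRp (PPrimeResidual.isNormalIn_residual hRp hX.1)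
  refine ⟨⟨hsat, hX.2.1, fun P φ hφ => hX.2.2.1 P hφ.1, hX.2.2.2.1, ?_, fun P hP φ hφ => ?_⟩,
    fun α hα => hext (mem_topAut_of_meetNormal c hα)⟩
  · intro P hPR φ hφ d hd
    obtain ⟨hφX, α, hα, φ₀, hφ₀, he⟩ := h.mem_quot hRp hφ
    obtain ⟨χ, hχ, hv⟩ := hX.2.2.2.2.1 P hPR φ hφX d hd
    obtain ⟨χ₀, hχ₀, hv₀⟩ := ResidualNormal.transports_minimal hX P hPR φ₀ hφ₀ d hd
    have hαK : α ∈ topAut c := by
      obtain ⟨-, β, hβ, hb⟩ := hα
      rwa [show α = β from MulEquiv.ext fun x => Subtype.ext (hb x).symm]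
    have hK := topAut_conj c (autGroup_le_of_subsystem hG hX.2.2.2.1.1 hd) hαK
    refine ⟨χ, h.quot_of hRp hχ ⟨hK.1.1.1, _, hK, fun _ => rfl⟩ hχ₀ ?_, hv⟩
    rintro ⟨_, z, hz, rfl⟩ hzT
    refine (hv ⟨z, hz⟩ (apply_mem hφX _) ⟨z, hz, rfl⟩).trans ?_
    show ((d ⟨φ ⟨z, hz⟩, _⟩ : ↥(T ⊓ T')) : Ω) =
      (((d * α * d⁻¹) ⟨χ₀ _, hzT⟩ : ↥(T ⊓ T')) : Ω)
    rw [show (⟨χ₀ _, hzT⟩ : ↥(T ⊓ T')) = d ⟨φ₀ ⟨z, hz⟩, apply_mem hφ₀ _⟩ from
        Subtype.ext (hv₀ ⟨z, hz⟩ (apply_mem hφ₀ _) ⟨z, hz, rfl⟩),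
      MulAut.mul_apply, MulAut.mul_apply, MulAut.inv_apply_self]
    exact congrArg (fun s : ↥(T ⊓ T') => ((d s : ↥(T ⊓ T')) : Ω))
      (Subtype.ext (he ⟨z, hz⟩ _))
  · obtain ⟨a, ha, φ₀, hφ₀, he⟩ := hN.1.2.2.2.2.2 P hP φ hφ
    exact ⟨a, ha, φ₀, h.subsystem_le_quot hRp P hφ₀, he⟩

theorem isNormalIn_meetNormal (c : Ctx F E D p) : (meetNormal c).IsNormalIn F p :=
  isNormalIn_meetNormal_of c c.hS (isWeaklyNormalIn_meetSystem c) (fun _ _ h => h)
    fun _ h => h.1.1.2

theorem isNormalIn_meetNormal_left (c : Ctx F E D p) : (meetNormal c).IsNormalIn E p :=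
  haveI : Finite T := finite_of_le c.closedE.1
  isNormalIn_meetNormal_of c (c.hS.to_le c.closedE.1) (isWeaklyNormalIn_meetSystem_left c)
    c.invE.1 fun _ h => h.1.2

theorem isNormalIn_meetNormal_right (c : Ctx F E D p) : (meetNormal c).IsNormalIn D p :=
  haveI : Finite T' := finite_of_le c.closedD.1
  isNormalIn_meetNormal_of c (c.hS.to_le c.closedD.1) (isWeaklyNormalIn_meetSystem_right c)
    c.invD.1 fun _ h => h.2

theorem le_meetNormal (c : Ctx F E D p) {X : FusionSystem (T ⊓ T')} (hX : X.IsNormalIn F p)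
    (hXE : X.IsNormalIn E p) (hXD : X.IsNormalIn D p) : X.IsSubsystemOf (meetNormal c) := by
  have := finite_of_le (Ω := Ω) c.le
  have hRp := c.hS.to_le c.le
  have hXX : X.IsSubsystemOf (meetSystem c) :=
    le_meetSystem c hX.1 hXE.1.2.2.1 hXD.1.2.2.1
  have hlarge : IsLargeOnCentric (minimalPrimeToP (meetSystem c) p) X p := by
    intro P hP
    rw [Subgroup.map_le_iff_le_comap]
    refine (Subgroup.closure_le _).2 fun γ ⟨k, hk⟩ => ?_
    have hγX := autGroup_le_of_subsystem hXX hP.1 γ.2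
    refine isLargeOnCentric_minimalPrimeToP P
      (SameBase.isCentric_of_centric hX.1 (isWeaklyNormalIn_meetSystem c) hP)
      ⟨⟨_, hγX⟩, Subgroup.subset_closure ⟨k, ?_⟩, rfl⟩
    rw [← Subgroup.orderOf_coe] at hk
    rw [← Subgroup.orderOf_coe]
    exact hk
  intro P φ hφ
  obtain ⟨β, hβ, φ₀, hφ₀, he⟩ :=
    frattini_minimalPrimeToP hRp hX.1.1 hφ P le_rfl (dom_le hφ)
  refine (relData c).quot_of hRp (hXX P hφ) ⟨autGroup_le_of_subsystem hXX le_rfl hβ, β, ?_,
    fun _ => rfl⟩ (minimalPrimeToP_le hlarge P hφ₀) he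
  exact ⟨⟨⟨autGroup_le_of_subsystem hXX le_rfl hβ, hX.2 β hβ⟩, hXE.2 β hβ⟩, hXD.2 β hβ⟩

end Cfsg.Agent.Fusion.Meet
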