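import Cfsg.Agent.Lib.Fusion.Meet.Defs
import Cfsg.Agent.Lib.Fusion.SameBase
import Cfsg.Agent.Lib.Fusion.CriterionAux
import Cfsg.Agent.Lib.SylowCount.Basic
import Cfsg.Agent.Lib.Transfer.ConjFamily

/-!
The groups `meetAut`: a Sylow subgroup at the fully normalized subgroups, restriction, and lifting
of automorphisms of order prime to `p`.
-/

set_option autoImplicit false
set_option linter.unusedSectionVars false

namespace Cfsg.Agent.Fusion.Meet

open Cfsg Cfsg.FusionSystem Cfsg.Agent.Fusion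

universe u

variable {Ω : Type u} [Group Ω] {S T T' : Subgroup Ω} {F : FusionSystem S} {E : FusionSystem T}
  {D : FusionSystem T'} {p : ℕ}
variable [Finite S] [Fact p.Prime]

/-- The automorphisms of order prime to `p` in both systems meet `Aut_S(U)` inside `Aut_{T ⊓ T'}(U)`,
for fully normalized `U`. -/
def KerBound (F : FusionSystem S) (E : FusionSystem T) (D : FusionSystem T') (p : ℕ) : Prop :=
  ∀ U : Subgroup Ω, U ≤ T ⊓ T' → F.IsFullyNormalized U →
    (Cfsg.pResidual p ↥(kAut E D U)).map (kAut E D U).subtype ⊓ autInducedBy S U ≤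
      autInducedBy (T ⊓ T') U

/-- Every `p`-subgroup of `meetAut` containing `Aut_R(U)` is `Aut_R(U)`. -/
def SylR (F : FusionSystem S) (E : FusionSystem T) (D : FusionSystem T') (p : ℕ)
    (U : Subgroup Ω) : Prop :=
  ∀ P : Subgroup (MulAut U), IsPGroup p P → autInducedBy (T ⊓ T') U ≤ P →
    P ≤ meetAut F E D p U → P ≤ autInducedBy (T ⊓ T') U

/-- Conjugation by an element normalizing `U` normalizes the automorphisms induced by `R`. -/
theorem conj_mem_autInducedBy {R U : Subgroup Ω} {g : Ω} (hgR : g ∈ Subgroup.normalizer (R : Set Ω))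
    (hgU : g ∈ Subgroup.normalizer (U : Set Ω)) {a : MulAut U} (ha : a ∈ autInducedBy R U) :
    conjAut hgU * a * (conjAut hgU)⁻¹ ∈ autInducedBy R U := by
  obtain ⟨r, hr, he⟩ := mem_autInducedBy_iff.1 ha
  refine mem_autInducedBy_iff.2 ⟨g * r * g⁻¹, (Subgroup.mem_normalizer_iff.1 hgR r).1 hr,
    fun x => ?_⟩
  obtain ⟨y, rfl⟩ := (conjAut hgU).surjective x
  rw [MulAut.mul_apply, MulAut.mul_apply, MulAut.inv_apply_self, coe_conjAut, he, coe_conjAut]
  group

theorem kAut_conj (c : Ctx F E D p) {U : Subgroup Ω} (hU : U ≤ T ⊓ T') {β a : MulAut U}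
    (hβ : β ∈ F.autGroup U) (ha : a ∈ kAut E D U) : β * a * β⁻¹ ∈ kAut E D U :=
  ⟨conj_mem_autGroup_of_invariant c.invE (hU.trans inf_le_left) hβ ha.1,
    conj_mem_autGroup_of_invariant c.invD (hU.trans inf_le_right) hβ ha.2⟩

theorem congr_homEquiv_eq_conj {U : Subgroup Ω} (hU : U ≤ S) {φ : U →* Ω} (hφ : φ ∈ F.Hom U)
    (hr : φ.range = U) (a : MulAut U) :
    MulAut.congr (homEquiv hφ hr) a = toAut hφ hr * a * (toAut hφ hr)⁻¹ := by
  refine MulEquiv.ext fun y => ?_
  obtain ⟨x, rfl⟩ := (toAut hφ hr).surjective y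
  rw [MulAut.mul_apply, MulAut.mul_apply, MulAut.inv_apply_self]
  exact congr_apply (homEquiv hφ hr) a x

theorem meetAut_conj (c : Ctx F E D p) {U : Subgroup Ω} (hU : U ≤ T ⊓ T') {β a : MulAut U}
    (hβ : β ∈ F.autGroup U) (ha : a ∈ meetAut F E D p U) : β * a * β⁻¹ ∈ meetAut F E D p U := by
  obtain ⟨h₁, h₂⟩ := hom_of_mem_autGroup (hU.trans c.le) hβ
  have h := congr_mem_meetAut c hU h₁ h₂ ha
  rwa [congr_homEquiv_eq_conj (hU.trans c.le) h₁ h₂,
    show toAut h₁ h₂ = β from MulEquiv.ext fun x => Subtype.ext rfl] at h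

/-- The part generated by the elements of order prime to `p`. -/
def primePart (E : FusionSystem T) (D : FusionSystem T') (p : ℕ) (U : Subgroup Ω) :
    Subgroup (MulAut U) :=
  Subgroup.closure {a | a ∈ kAut E D U ∧ (orderOf a).Coprime p}

theorem primePart_le_meetAut (U : Subgroup Ω) : primePart E D p U ≤ meetAut F E D p U :=
  (Subgroup.closure_le _).2 fun _ h => mem_meetAut_coprime h.1 h.2

theorem primePart_le_map (U : Subgroup Ω) :
    primePart E D p U ≤ (Cfsg.pResidual p ↥(kAut E D U)).map (kAut E D U).subtype :=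
  (Subgroup.closure_le _).2 fun a h => ⟨⟨a, h.1⟩, Subgroup.subset_closure
    (show (orderOf (⟨a, h.1⟩ : kAut E D U)).Coprime p by rw [← Subgroup.orderOf_coe]; exact h.2),
    rfl⟩

theorem map_le_primePart (U : Subgroup Ω) :
    (Cfsg.pResidual p ↥(kAut E D U)).map (kAut E D U).subtype ≤ primePart E D p U := by
  rw [Subgroup.map_le_iff_le_comap]
  refine (Subgroup.closure_le _).2 fun a ha => Subgroup.subset_closure ⟨a.2, ?_⟩
  show (orderOf (a : MulAut U)).Coprime p
  rw [Subgroup.orderOf_coe]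
  exact ha

theorem primePart_conj (c : Ctx F E D p) {U : Subgroup Ω} (hU : U ≤ T ⊓ T') {β a : MulAut U}
    (hβ : β ∈ F.autGroup U) (ha : a ∈ primePart E D p U) : β * a * β⁻¹ ∈ primePart E D p U := by
  suffices primePart E D p U ≤ (primePart E D p U).comap (MulAut.conj β).toMonoidHom from this ha
  refine (Subgroup.closure_le _).2 fun b hb => ?_
  refine Subgroup.subset_closure ⟨kAut_conj c hU hβ hb.1, ?_⟩
  show (orderOf ((MulAut.conj β) b)).Coprime p
  rw [MulEquiv.orderOf_eq]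
  exact hb.2

/-- At a fully normalized subgroup `meetAut` is `O^p(K) Aut_R(U)`. -/
theorem meetAut_le_sup (c : Ctx F E D p) {U : Subgroup Ω} (hU : U ≤ T ⊓ T')
    (hUn : F.IsFullyNormalized U) :
    meetAut F E D p U ≤ primePart E D p U ⊔ autInducedBy (T ⊓ T') U := by
  set R := T ⊓ T' with hR
  set H := primePart E D p U ⊔ autInducedBy R U with hH
  have hUS : U ≤ S := hU.trans c.le
  have := finite_mulAut (Ω := Ω) hUS
  have hRn := le_normalizer_of_stronglyClosed c.closed
  obtain ⟨-, Y, hY⟩ := isFullyAutomized_of_fullyNormalized c.hS c.hF hUn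
  let K : Subgroup (F.autGroup U) := (kAut E D U).subgroupOf (F.autGroup U)
  have : K.Normal := ⟨fun k hk a => kAut_conj c hU a.2 hk⟩
  -- the elements normalizing `H`
  let Nm : Subgroup (F.autGroup U) :=
    (Subgroup.normalizer (H : Set (MulAut U))).subgroupOf (F.autGroup U)
  have hnorm : ∀ β : F.autGroup U, (∀ a ∈ autInducedBy R U,
      (β : MulAut U) * a * (β : MulAut U)⁻¹ ∈ H) → β ∈ Nm := by
    intro β hβ
    refine Transfer.mem_normalizer_of_conj_mem fun w hw => ?_
    suffices H ≤ H.comap (MulAut.conj (β : MulAut U)).toMonoidHom from this hw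
    exact sup_le (fun a ha => Subgroup.mem_sup_left (primePart_conj c hU β.2 ha)) hβ
  have hS' : ∀ g ∈ S, ∀ (hg : g ∈ Subgroup.normalizer (U : Set Ω)) (a : MulAut U),
      a ∈ autInducedBy R U → conjAut hg * a * (conjAut hg)⁻¹ ∈ autInducedBy R U :=
    fun g hgS hg a ha => conj_mem_autInducedBy (hRn hgS) hg ha
  -- the normalizer of `W`
  have hNW : Subgroup.normalizer
      (((Y : Subgroup (F.autGroup U)) ⊓ K : Subgroup (F.autGroup U)) : Set (F.autGroup U)) ≤ Nm := by
    intro β hβ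
    refine hnorm β fun a ha => Subgroup.mem_sup_right ?_
    obtain ⟨hφ, hφr⟩ := hom_of_mem_autGroup hUS β.2
    obtain ⟨r, hr, he⟩ := mem_autInducedBy_iff.1 ha
    have hrN := mem_normalizer_of_aut he
    have haF : a ∈ F.autGroup U :=
      autInducedBy_le_autGroup F hUS (autInducedBy_mono c.le ha)
    have haK : a ∈ kAut E D U := meetAut_le_kAut c hU (autInducedBy_le_meetAut hUS ha)
    have haW : (⟨a, haF⟩ : F.autGroup U) ∈ (Y : Subgroup (F.autGroup U)) ⊓ K :=
      ⟨by rw [hY]; exact autInducedBy_mono c.le ha, haK⟩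
    have h1 : (β * ⟨a, haF⟩ * β⁻¹ : F.autGroup U) ∈ (Y : Subgroup (F.autGroup U)) :=
      ((Subgroup.mem_normalizer_iff.1 hβ _).1 haW).1
    rw [hY, Subgroup.mem_subgroupOf] at h1
    obtain ⟨s, hs, hse⟩ := mem_autInducedBy_iff.1 h1
    -- extend `β` and use strong closure
    have hext : U ⊔ Subgroup.zpowers r ≤
        extender S U (U.subtype.comp (β : MulAut U).toMonoidHom) := by
      refine sup_le (le_extender hUS fun x => apply_mem hφ x) (Subgroup.zpowers_le.2 ?_)
      refine mem_extender_iff.2 ⟨c.le hr, hrN, s, hs, fun x hx => ?_⟩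
      have h2 := hse ((β : MulAut U) x)
      rw [show ((β * ⟨a, haF⟩ * β⁻¹ : F.autGroup U) : MulAut U) ((β : MulAut U) x) =
        (β : MulAut U) (a ((β : MulAut U)⁻¹ ((β : MulAut U) x))) from rfl,
        MulAut.inv_apply_self] at h2
      refine Eq.trans ?_ h2
      exact congrArg (fun u : U => (((β : MulAut U) u : U) : Ω)) (Subtype.ext (he x).symm)
    obtain ⟨ψ, hψ, hψe⟩ :=
      exists_extension (isReceptive_of_fullyNormalized c.hS c.hF hUn) hφ hφr hext
    set r' : ↥(U ⊔ Subgroup.zpowers r) :=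
      ⟨r, Subgroup.mem_sup_right (Subgroup.mem_zpowers r)⟩ with hr'
    refine mem_autInducedBy_iff.2 ⟨ψ r', apply_mem_closed c.closed hψ r' hr, fun x => ?_⟩
    obtain ⟨y, rfl⟩ := (β : MulAut U).surjective x
    rw [MulAut.mul_apply, MulAut.mul_apply, MulAut.inv_apply_self]
    have e1 := hψe _ (a y).2 (Subgroup.mem_sup_left (a y).2)
    have e2 := hψe _ y.2 (Subgroup.mem_sup_left y.2)
    show U.subtype.comp (β : MulAut U).toMonoidHom ⟨(a y : Ω), (a y).2⟩ =
      ψ r' * U.subtype.comp (β : MulAut U).toMonoidHom ⟨(y : Ω), y.2⟩ * (ψ r')⁻¹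
    rw [← e1, ← e2, ← map_inv, ← map_mul, ← map_mul]
    exact congrArg ψ (Subtype.ext (he y))
  -- the group `K`
  have hK : K ≤ Nm := by
    obtain ⟨P, hP⟩ := Cfsg.Agent.SylowCount.exists_sylow_inf Y K
    intro k hk
    have htop := Transfer.sylow_sup_pResidual_eq_top P
    suffices h : (⊤ : Subgroup K) ≤ Nm.comap K.subtype from h (Subgroup.mem_top ⟨k, hk⟩)
    rw [← htop]
    refine sup_le (fun w hw => ?_) ((Subgroup.closure_le _).2 fun w hw => ?_)
    · rw [hP, Subgroup.mem_subgroupOf, hY, Subgroup.mem_subgroupOf] at hw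
      obtain ⟨s, hs, hse⟩ := mem_autInducedBy_iff.1 hw
      refine hnorm _ fun a ha => Subgroup.mem_sup_right ?_
      rw [show ((K.subtype w : F.autGroup U) : MulAut U) = conjAut (mem_normalizer_of_aut hse) from
        MulEquiv.ext fun x => Subtype.ext (hse x)]
      exact hS' s hs _ a ha
    · have hwp : ((w : F.autGroup U) : MulAut U) ∈ primePart E D p U :=
        Subgroup.subset_closure ⟨w.2, by
          rw [Subgroup.orderOf_coe, Subgroup.orderOf_coe]; exact hw⟩
      refine Subgroup.mem_subgroupOf.2 (Subgroup.le_normalizer ?_)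
      exact Subgroup.mem_sup_left hwp
  have hfr := Transfer.sup_normalizer_inf_eq_top Y K
  have htop : (⊤ : Subgroup (F.autGroup U)) ≤ Nm := hfr ▸ sup_le hK hNW
  refine meetAut_le_of (fun a ha hc => Subgroup.mem_sup_left (Subgroup.subset_closure ⟨ha, hc⟩))
    fun Q χ hχ hr b hb => ?_
  obtain ⟨r, hrR, hbe⟩ := mem_autInducedBy_iff.1 hb
  obtain ⟨χ₁, hχ₁, hχ₁N, hχ₁Q⟩ :=
    exists_hom_fullyNormalized c.hS c.hF hUn ⟨χ, hχ, hr⟩
  have hQS := dom_le hχ
  have hQN : Q ≤ normalizerIn S Q := le_normalizerIn hQS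
  have h₁ := restrict_mem hχ₁ hQN
  have h₁r : (χ₁.comp (Subgroup.inclusion hQN)).range = U := by
    rw [MonoidHom.range_comp, Subgroup.inclusion_range, hχ₁Q]
  set e₁ := homEquiv h₁ h₁r with he₁
  set e := homEquiv hχ hr with he'
  have hrN : r ∈ normalizerIn S Q := ⟨c.le hrR, mem_normalizer_of_aut hbe⟩
  have hind : MulAut.congr e₁ b ∈ autInducedBy R U := by
    refine mem_autInducedBy_iff.2 ⟨χ₁ ⟨r, hrN⟩, apply_mem_closed c.closed hχ₁ _ hrR, fun y => ?_⟩
    obtain ⟨x, rfl⟩ := e₁.surjective y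
    rw [congr_apply, he₁, coe_homEquiv, coe_homEquiv]
    show χ₁ _ = χ₁ _ * χ₁ _ * (χ₁ _)⁻¹
    rw [← map_inv, ← map_mul, ← map_mul]
    exact congrArg χ₁ (Subtype.ext (hbe x))
  -- `e` and `e₁` differ by an element of `Aut_F(U)`
  obtain ⟨η, hη, hηr, hηi, -⟩ := exists_inverse h₁ h₁r
  have hηQ : ∀ y, η y ∈ Q := fun y => hηr.le ⟨y, rfl⟩
  have hβh := F.comp_mem hη hχ hηQ
  have hβr : (χ.comp (η.codRestrict Q hηQ)).range = U :=
    range_eq_of_le hβh hUS (fun y => hr.le ⟨_, rfl⟩) le_rfl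
  set β : F.autGroup U := ⟨toAut hβh hβr, toAut_mem hβh hβr⟩ with hβdef
  have key : ∀ x : Q, (β : MulAut U) (e₁ x) = e x := fun x => Subtype.ext (by
    show χ ⟨η (e₁ x), _⟩ = χ x
    exact congrArg χ (Subtype.ext (hηi x (e₁ x).2)))
  have hconj : MulAut.congr e b = (β : MulAut U) * MulAut.congr e₁ b * (β : MulAut U)⁻¹ := by
    refine MulEquiv.ext fun y => ?_
    obtain ⟨x, rfl⟩ := e.surjective y
    rw [congr_apply, MulAut.mul_apply, MulAut.mul_apply, ← key x, MulAut.inv_apply_self,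
      congr_apply, key]
  show MulAut.congr e b ∈ H
  rw [hconj]
  exact (Subgroup.mem_normalizer_iff.1 (Subgroup.mem_subgroupOf.1 (htop (Subgroup.mem_top β))) _).1
    (Subgroup.mem_sup_right hind)

/-- `Aut_R(U)` is a Sylow subgroup of `meetAut` at a fully normalized `U`. -/
theorem sylR_of_fullyNormalized (c : Ctx F E D p) (hk : KerBound F E D p) {U : Subgroup Ω}
    (hU : U ≤ T ⊓ T') (hUn : F.IsFullyNormalized U) : SylR F E D p U := by
  set R := T ⊓ T' with hR
  intro P hP hRP hPA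
  have hUS : U ≤ S := hU.trans c.le
  have hRn := le_normalizer_of_stronglyClosed c.closed
  have := finite_mulAut (Ω := Ω) hUS
  obtain ⟨-, Y, hY⟩ := isFullyAutomized_of_fullyNormalized c.hS c.hF hUn
  let M : Subgroup (F.autGroup U) := (meetAut F E D p U).subgroupOf (F.autGroup U)
  have : M.Normal := ⟨fun k hk a => meetAut_conj c hU a.2 hk⟩
  obtain ⟨W, hW⟩ := Cfsg.Agent.SylowCount.exists_sylow_inf Y M
  -- `Aut_S(U) ∩ meetAut ≤ Aut_R(U)`
  have hint : meetAut F E D p U ⊓ autInducedBy S U ≤ autInducedBy R U := by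
    rintro x ⟨hxA, hxS⟩
    have hle := meetAut_le_sup c hU hUn hxA
    have hn : autInducedBy R U ≤ Subgroup.normalizer (primePart E D p U : Set (MulAut U)) :=
      fun r hr => Transfer.mem_normalizer_of_conj_mem fun w hw => primePart_conj c hU
        (autInducedBy_le_autGroup F hUS (autInducedBy_mono c.le hr)) hw
    have hx : x ∈ ((autInducedBy R U ⊔ primePart E D p U : Subgroup (MulAut U)) :
        Set (MulAut U)) := by
      rw [sup_comm]
      exact hle
    rw [Subgroup.coe_mul_of_left_le_normalizer_right _ _ hn] at hx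
    obtain ⟨r, hr, g, hg, rfl⟩ := hx
    refine mul_mem hr (hk U hU hUn ⟨primePart_le_map U hg, ?_⟩)
    have := mul_mem (inv_mem (autInducedBy_mono c.le hr)) hxS
    rwa [inv_mul_cancel_left] at this
  have hle : ∀ x ∈ P, x ∈ F.autGroup U := fun x hx => meetAut_le_autGroup c hU (hPA hx)
  let P' : Subgroup M := (P.subgroupOf (F.autGroup U)).subgroupOf M
  have hP' : IsPGroup p P' := (hP.comap_subtype).comap_subtype
  have hWP : (W : Subgroup M) ≤ P' := by
    intro w hw
    rw [hW, Subgroup.mem_subgroupOf, hY, Subgroup.mem_subgroupOf] at hw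
    exact hRP (hint ⟨w.2, hw⟩)
  have heq := W.is_maximal' hP' hWP
  intro x hx
  refine hint ⟨hPA hx, ?_⟩
  have hxP : (⟨⟨x, hle x hx⟩, hPA hx⟩ : M) ∈ P' := hx
  rw [heq, hW, Subgroup.mem_subgroupOf, hY, Subgroup.mem_subgroupOf] at hxP
  exact hxP

/-- The map on `U` given by an automorphism of `R`. -/
theorem exists_top_map {R U : Subgroup Ω} (hRS : R ≤ S) (hU : U ≤ R) {α : MulAut R}
    (hα : α ∈ F.autGroup R) :
    ∃ (hφ : (R.subtype.comp α.toMonoidHom).comp (Subgroup.inclusion hU) ∈ F.Hom U),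
      ((R.subtype.comp α.toMonoidHom).comp (Subgroup.inclusion hU)).range = autImage α U := by
  refine ⟨restrict_mem ((mem_autGroup_iff hRS).1 hα) hU, ?_⟩
  rw [MonoidHom.range_comp, Subgroup.inclusion_range]
  rfl

theorem sylR_of_top (c : Ctx F E D p) (hk : KerBound F E D p) {U : Subgroup Ω}
    (hU : Top F (T ⊓ T') U) : SylR F E D p U := by
  set R := T ⊓ T' with hR
  obtain ⟨hUR, α, hα, hn⟩ := hU
  change F.IsFullyNormalized (autImage α U) at hn
  obtain ⟨hφ, hr⟩ := exists_top_map (U := U) c.le hUR hα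
  set e := homEquiv hφ hr with he
  have hev : ∀ x : U, ((e x : autImage α U) : Ω) = ((α ⟨x, hUR x.2⟩ : R) : Ω) := fun x => rfl
  have hU₂ : autImage α U ≤ R := autImage_le α U
  intro P hP hRP hPA
  have hP' : IsPGroup p (P.map (MulAut.congr e).toMonoidHom) := hP.map _
  have key := sylR_of_fullyNormalized c hk hU₂ hn _ hP' ?_ ?_
  · intro x hx
    obtain ⟨r, hrR, hre⟩ := mem_autInducedBy_iff.1 (key ⟨x, hx, rfl⟩)
    obtain ⟨r₀, hr₀⟩ := α.surjective ⟨r, hrR⟩
    refine mem_autInducedBy_iff.2 ⟨r₀, r₀.2, fun y => ?_⟩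
    have h1 := hre (e y)
    rw [show (MulAut.congr e).toMonoidHom x (e y) = MulAut.congr e x (e y) from rfl, congr_apply,
      hev, hev, show r = ((α r₀ : R) : Ω) from (congrArg Subtype.val hr₀).symm, ← Subgroup.coe_inv,
      ← map_inv, ← Subgroup.coe_mul, ← map_mul, ← Subgroup.coe_mul, ← map_mul] at h1
    exact congrArg Subtype.val (α.injective (Subtype.ext h1))
  · intro b hb
    obtain ⟨r, hrR, hre⟩ := mem_autInducedBy_iff.1 hb
    obtain ⟨r₀, hr₀⟩ := α.surjective ⟨r, hrR⟩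
    obtain ⟨a, rfl⟩ := (MulAut.congr e).surjective b
    refine ⟨a, hRP (mem_autInducedBy_iff.2 ⟨r₀, r₀.2, fun y => ?_⟩), rfl⟩
    have h1 := hre (e y)
    rw [congr_apply, hev, hev, show r = ((α r₀ : R) : Ω) from (congrArg Subtype.val hr₀).symm,
      ← Subgroup.coe_inv, ← map_inv, ← Subgroup.coe_mul, ← map_mul, ← Subgroup.coe_mul,
      ← map_mul] at h1
    exact congrArg Subtype.val (α.injective (Subtype.ext h1))
  · rintro _ ⟨a, ha, rfl⟩
    exact congr_mem_meetAut c hUR hφ hr (hPA ha)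

/-- A `p`-element of `meetAut` is, up to transport along a map of `F`, induced by `R`. -/
theorem exists_conj_pElement (c : Ctx F E D p) (hk : KerBound F E D p) {N : Subgroup Ω}
    (hN : N ≤ T ⊓ T') {x : MulAut N} (hx : x ∈ meetAut F E D p N) {k : ℕ} (hxk : x ^ p ^ k = 1) :
    ∃ (N₁ : Subgroup Ω) (φ : N →* Ω) (hφ : φ ∈ F.Hom N) (hr : φ.range = N₁),
      MulAut.congr (homEquiv hφ hr) x ∈ autInducedBy (T ⊓ T') N₁ := by
  set R := T ⊓ T' with hR
  obtain ⟨N₁, ⟨φ, hφ, hr⟩, hN₁⟩ := exists_fullyNormalized F (hN.trans c.le)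
  have hN₁R : N₁ ≤ R := by
    rw [← hr]; rintro _ ⟨y, rfl⟩; exact c.closed.2 N hN φ hφ y
  set e := homEquiv hφ hr with he
  have hx' : MulAut.congr e x ∈ meetAut F E D p N₁ := congr_mem_meetAut c hN hφ hr hx
  have := finite_mulAut (Ω := Ω) hN₁.1
  have hsyl := sylR_of_fullyNormalized c hk hN₁R hN₁
  set A := meetAut F E D p N₁ with hA
  have hle := autInducedBy_le_meetAut (E := E) (D := D) (p := p) (F := F) (T := T) (T' := T') hN₁.1
  have hpg : IsPGroup p ((autInducedBy R N₁).subgroupOf A) :=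
    (isPGroup_autInducedBy (c.hS.to_le c.le) N₁).of_equiv
      (Subgroup.subgroupOfEquivOfLe hle).symm
  obtain ⟨W, hW⟩ := hpg.exists_le_sylow
  have hWR : (W : Subgroup A).map A.subtype ≤ autInducedBy R N₁ :=
    hsyl _ (W.isPGroup'.map _) (fun a ha => ⟨⟨a, hle ha⟩, hW ha, rfl⟩) (Subgroup.map_subtype_le _)
  have hz : IsPGroup p (Subgroup.zpowers (⟨MulAut.congr e x, hx'⟩ : A)) :=
    ConstrainedGroup.isPGroup_zpowers_of_pow_eq_one (k := k) (Subtype.ext (by
      show (MulAut.congr e x) ^ p ^ k = 1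
      rw [← map_pow, hxk, map_one]))
  obtain ⟨W₂, hW₂⟩ := hz.exists_le_sylow
  obtain ⟨q, hq⟩ := MulAction.exists_smul_eq A W₂ W
  have hqx : q * ⟨MulAut.congr e x, hx'⟩ * q⁻¹ ∈ (W : Subgroup A) := by
    rw [← hq, Sylow.coe_subgroup_smul]
    exact Subgroup.smul_mem_pointwise_smul _ (MulAut.conj q) _ (hW₂ (Subgroup.mem_zpowers _))
  have hqF : (q : MulAut N₁) ∈ F.autGroup N₁ := meetAut_le_autGroup c hN₁R q.2
  have hψ : φ.range ≤ N₁ := hr.le
  let ψ : N →* Ω := (N₁.subtype.comp (q : MulAut N₁).toMonoidHom).comp e.toMonoidHom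
  have hψv : ∀ y : N, ψ y = (((q : MulAut N₁) (e y) : N₁) : Ω) := fun y => rfl
  have hψF : ψ ∈ F.Hom N := aut_comp_mem hφ hr hqF hψv
  have hψr : ψ.range = N₁ := range_eq_of_aut hφ hr _ hψv
  refine ⟨N₁, ψ, hψF, hψr, ?_⟩
  have heq : MulAut.congr (homEquiv hψF hψr) x =
      (q : MulAut N₁) * MulAut.congr e x * (q : MulAut N₁)⁻¹ := by
    refine MulEquiv.ext fun z => ?_
    obtain ⟨y, rfl⟩ := (homEquiv hψF hψr).surjective z
    rw [congr_apply, show homEquiv hψF hψr y = (q : MulAut N₁) (e y) from Subtype.ext rfl,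
      MulAut.mul_apply, MulAut.mul_apply, MulAut.inv_apply_self, congr_apply]
    exact Subtype.ext rfl
  rw [heq]
  exact hWR ⟨_, hqx, rfl⟩

/-- `meetAut` restricts to subgroups. -/
theorem restrict_mem_meetAut (c : Ctx F E D p) (hk : KerBound F E D p) {U N : Subgroup Ω}
    (hN : N ≤ T ⊓ T') (hUN : U ≤ N) {b : MulAut N} (hb : b ∈ meetAut F E D p N)
    {β : MulAut U} (hβ : ∀ x : U, ((β x : U) : Ω) = ((b (Subgroup.inclusion hUN x) : N) : Ω)) :
    β ∈ meetAut F E D p U := by
  set R := T ⊓ T' with hR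
  have hNS : N ≤ S := hN.trans c.le
  have := finite_mulAut (Ω := Ω) hNS
  have := finite_of_le (Ω := Ω) (hUN.trans hNS)
  -- restrictions of powers
  have hpow : ∀ n : ℕ, ∀ x : U,
      (((β ^ n) x : U) : Ω) = (((b ^ n) (Subgroup.inclusion hUN x) : N) : Ω) := by
    intro n
    induction n with
    | zero => exact fun x => rfl
    | succ n ih =>
      intro x
      rw [pow_succ, pow_succ, MulAut.mul_apply, MulAut.mul_apply, ih]
      exact congrArg (fun y : N => (((b ^ n) y : N) : Ω)) (Subtype.ext (hβ x))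
  obtain ⟨k, m, hm, hord⟩ := Nat.exists_eq_pow_mul_and_not_dvd (orderOf_pos b).ne' p
    (Fact.out : p.Prime).one_lt.ne'
  refine SameBase.mem_of_pow_coprime _ (a := p ^ k) (b := m) ?_ ?_ ?_
  · exact ((Fact.out : p.Prime).coprime_iff_not_dvd.2 hm).pow_left k
  · -- the part of order prime to `p`
    have hbc : (orderOf (b ^ p ^ k)).Coprime p := by
      rw [orderOf_pow, hord, Nat.gcd_eq_right (dvd_mul_right _ _),
        Nat.mul_div_cancel_left _ (pow_pos (Fact.out : p.Prime).pos k)]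
      exact ((Fact.out : p.Prime).coprime_iff_not_dvd.2 hm).symm
    have hbK := meetAut_le_kAut c hN (pow_mem hb (p ^ k))
    refine mem_meetAut_coprime ⟨?_, ?_⟩ ?_
    · refine (mem_autGroup_iff (hUN.trans (hN.trans inf_le_left))).2 ?_
      exact mem_of_le ((mem_autGroup_iff (hN.trans inf_le_left)).1 hbK.1) hUN fun x => hpow _ x
    · refine (mem_autGroup_iff (hUN.trans (hN.trans inf_le_right))).2 ?_
      exact mem_of_le ((mem_autGroup_iff (hN.trans inf_le_right)).1 hbK.2) hUN fun x => hpow _ x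
    · refine Nat.Coprime.coprime_dvd_left (orderOf_dvd_of_pow_eq_one (MulEquiv.ext fun x => ?_)) hbc
      refine Subtype.ext ?_
      rw [← pow_mul, hpow, pow_mul, pow_orderOf_eq_one]
      rfl
  · -- the `p`-part
    have hxk : (b ^ m) ^ p ^ k = 1 := by
      rw [← pow_mul, mul_comm, ← hord, pow_orderOf_eq_one]
    obtain ⟨N₁, φ, hφ, hr, hind⟩ := exists_conj_pElement c hk hN (pow_mem hb m) hxk
    set e := homEquiv hφ hr with he
    obtain ⟨r, hrR, hre⟩ := mem_autInducedBy_iff.1 hind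
    set U₁ := (φ.comp (Subgroup.inclusion hUN)).range with hU₁
    have hφU := restrict_mem hφ hUN
    set e₁ := homEquiv hφU (rfl : _ = U₁) with he₁
    have hval : ∀ x : U, φ (Subgroup.inclusion hUN ((β ^ m) x)) =
        r * φ (Subgroup.inclusion hUN x) * r⁻¹ := fun x => by
      have h1 := hre (e (Subgroup.inclusion hUN x))
      rw [congr_apply, he, coe_homEquiv, coe_homEquiv] at h1
      exact (congrArg φ (Subtype.ext (hpow m x))).trans h1
    have hb₁ : MulAut.congr e₁ (β ^ m) ∈ autInducedBy R U₁ := by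
      refine mem_autInducedBy_iff.2 ⟨r, hrR, fun y => ?_⟩
      obtain ⟨x, rfl⟩ := e₁.surjective y
      rw [congr_apply, he₁, coe_homEquiv, coe_homEquiv]
      exact hval x
    obtain ⟨η, hη, hηr, hηi, -⟩ := exists_inverse hφU (rfl : _ = U₁)
    have := mem_meetAut_congr (E := E) (D := D) (p := p) hη hηr hb₁
    convert this using 1
    refine MulEquiv.ext fun y => ?_
    have hy : homEquiv hη hηr (e₁ y) = y := Subtype.ext (hηi y (e₁ y).2)
    conv_rhs => rw [← hy, congr_apply, congr_apply]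
    exact (Subtype.ext (hηi _ (e₁ _).2)).symm

/-- An element of order prime to `p` of `kAut` normalizing the automorphisms induced by `M` lifts to
such an element at `M`. -/
theorem exists_lift_coprime (c : Ctx F E D p) {U M : Subgroup Ω} (hU : InH F (T ⊓ T') U)
    (hrE : E.IsReceptive U) (hrD : D.IsReceptive U) (hUM : U ≤ M)
    (hM : M ≤ normalizerIn (T ⊓ T') U) {x : MulAut U} (hx : x ∈ kAut E D U)
    (hc : (orderOf x).Coprime p)
    (hn : ∀ a ∈ autInducedBy M U, x * a * x⁻¹ ∈ autInducedBy M U) :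
    ∃ δ ∈ kAut E D M, (orderOf δ).Coprime p ∧
      ∀ y : U, ((δ (Subgroup.inclusion hUM y) : M) : Ω) = ((x y : U) : Ω) := by
  set R := T ⊓ T' with hR
  have hMR : M ≤ R := hM.trans (normalizerIn_le R U)
  have hMN : M ≤ Subgroup.normalizer (U : Set Ω) := hM.trans inf_le_right
  have hMS : M ≤ S := hMR.trans c.le
  have := finite_mulAut (Ω := Ω) hMS
  have := finite_mulAut (Ω := Ω) (hU.le.trans c.le)
  -- an extension in either system
  have ext : ∀ (T₀ : Subgroup Ω) (G : FusionSystem T₀), R ≤ T₀ → G.IsSubsystemOf F →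
      x ∈ G.autGroup U → G.IsReceptive U → ∃ δ ∈ G.autGroup M,
        ∀ y : U, ((δ (Subgroup.inclusion hUM y) : M) : Ω) = ((x y : U) : Ω) := by
    intro T₀ G hRT hsub hxG hrec
    obtain ⟨hφ, hφr⟩ := hom_of_mem_autGroup (hU.le.trans hRT) hxG
    have hext : M ≤ extender T₀ U (U.subtype.comp x.toMonoidHom) := by
      intro m hm
      obtain ⟨m', hm', he⟩ := mem_autInducedBy_iff.1 (hn _ (conjAut_mem_autInducedBy hm (hMN hm)))
      refine mem_extender_iff.2 ⟨hRT (hMR hm), hMN hm, m', hRT (hMR hm'), fun y hy => ?_⟩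
      have h1 := he (x y)
      rw [MulAut.mul_apply, MulAut.mul_apply, MulAut.inv_apply_self] at h1
      exact h1
    obtain ⟨ψ, hψ, hψe⟩ := exists_extension hrec hφ hφr hext
    have hmem : ∀ m : M, ψ m ∈ M := by
      intro m
      have hy : ψ m ∈ R := c.closed.2 M hMR ψ (hsub M hψ) m
      obtain ⟨m', hm', he⟩ :=
        mem_autInducedBy_iff.1 (hn _ (conjAut_mem_autInducedBy m.2 (hMN m.2)))
      have hcen : m'⁻¹ * ψ m ∈ U := by
        refine hU.centralizer_le ⟨R.mul_mem (R.inv_mem (hMR hm')) hy,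
          Subgroup.mem_centralizer_iff.2 fun u hu => ?_⟩
        obtain ⟨y, rfl⟩ : ∃ y : U, ((x y : U) : Ω) = u :=
          ⟨x⁻¹ ⟨u, hu⟩, by rw [MulAut.apply_inv_self]⟩
        have h1 := he (x y)
        rw [MulAut.mul_apply, MulAut.mul_apply, MulAut.inv_apply_self] at h1
        have h2 : ((x (conjAut (hMN m.2) y) : U) : Ω) = ψ m * (x y : U) * (ψ m)⁻¹ := by
          have e2 := hψe (y : Ω) y.2 (hUM y.2)
          show U.subtype.comp x.toMonoidHom ⟨_, _⟩ = _ * U.subtype.comp x.toMonoidHom ⟨(y : Ω), y.2⟩ * _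
          rw [← e2]
          refine (hψe _ (conjAut (hMN m.2) y).2 (hUM (conjAut (hMN m.2) y).2)).symm.trans ?_
          rw [← map_inv, ← map_mul, ← map_mul]
          exact congrArg ψ (Subtype.ext rfl)
        rw [h1] at h2
        calc ((x y : U) : Ω) * (m'⁻¹ * ψ m)
            = m'⁻¹ * (m' * (x y : U) * m'⁻¹) * ψ m := by group
          _ = m'⁻¹ * (ψ m * (x y : U) * (ψ m)⁻¹) * ψ m := by rw [h2]
          _ = m'⁻¹ * ψ m * (x y : U) := by group
      have := M.mul_mem hm' (hUM hcen)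
      rwa [mul_inv_cancel_left] at this
    have hr : ψ.range = M := range_eq_of_le (hsub M hψ) hMS hmem le_rfl
    exact ⟨toAut hψ hr, toAut_mem hψ hr, fun y => hψe (y : Ω) y.2 (hUM y.2)⟩
  obtain ⟨δE, hδE, hδEv⟩ := ext T E inf_le_left c.invE.1 hx.1 hrE
  obtain ⟨δD, hδD, hδDv⟩ := ext T' D inf_le_right c.invD.1 hx.2 hrD
  -- powers restrict to powers
  have hpow : ∀ n : ℕ, ∀ y : U,
      (((δE ^ n) (Subgroup.inclusion hUM y) : M) : Ω) = (((x ^ n) y : U) : Ω) := by
    intro n
    induction n with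
    | zero => exact fun y => rfl
    | succ n ih =>
      intro y
      rw [pow_succ, pow_succ, MulAut.mul_apply, MulAut.mul_apply, ← ih]
      exact congrArg (fun z : M => (((δE ^ n) z : M) : Ω)) (Subtype.ext (hδEv y))
  -- the quotient is a translation
  have hEF : δE ∈ F.autGroup M := autGroup_le_of_subsystem c.invE.1 (hMR.trans inf_le_left) hδE
  have hDF : δD ∈ F.autGroup M := autGroup_le_of_subsystem c.invD.1 (hMR.trans inf_le_right) hδD
  set σ := δD⁻¹ * δE with hσ
  have hfix : ∀ z : M, (z : Ω) ∈ U → σ z = z := by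
    intro z hz
    rw [hσ, MulAut.mul_apply, show δE z = δD z from Subtype.ext ((hδEv ⟨z, hz⟩).trans
      (hδDv ⟨z, hz⟩).symm), MulAut.inv_apply_self]
  have hσf : σ ∈ fixingTranslations F M U := ⟨mul_mem (inv_mem hDF) hEF, hfix,
    fun z => NormalExtensions.inv_mul_mem_of_fixes hMR hUM hMN hU.centralizer_le hfix z⟩
  obtain ⟨j, hj⟩ := isPGroup_fixingTranslations (R := U) c.hS hMS ⟨σ, hσf⟩
  have hσj : σ ^ p ^ j = 1 := congrArg Subtype.val hj
  -- the power of order prime to `p`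
  obtain ⟨k, m, hm, hord⟩ := Nat.exists_eq_pow_mul_and_not_dvd (orderOf_pos δE).ne' p
    (Fact.out : p.Prime).one_lt.ne'
  set δ := δE ^ p ^ k with hδ
  have hmp : m.Coprime p := ((Fact.out : p.Prime).coprime_iff_not_dvd.2 hm).symm
  have hδo : orderOf δ = m := by
    rw [hδ, orderOf_pow, hord, Nat.gcd_eq_right (dvd_mul_right _ _),
      Nat.mul_div_cancel_left _ (pow_pos (Fact.out : p.Prime).pos k)]
  -- `δ` lies in `D`
  have hδD' : δ ∈ D.autGroup M := by
    let G := F.autGroup M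
    let N : Subgroup G := (D.autGroup M).subgroupOf G
    have : N.Normal :=
      ⟨fun a ha b => conj_mem_autGroup_of_invariant c.invD (hMR.trans inf_le_right) b.2 ha⟩
    set σ' : G := ⟨σ, hσf.1⟩ with hσ'
    set δ' : G := ⟨δE, hEF⟩ ^ p ^ k with hδ'
    suffices h : (δ' : G) ∈ N by
      have h' := Subgroup.mem_subgroupOf.1 h
      rwa [hδ', SubgroupClass.coe_pow] at h'
    have hq : QuotientGroup.mk' N ⟨δE, hEF⟩ = QuotientGroup.mk' N σ' := by
      refine QuotientGroup.eq.2 ?_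
      show (⟨δE, hEF⟩ : G)⁻¹ * σ' ∈ N
      rw [Subgroup.mem_subgroupOf]
      show δE⁻¹ * (δD⁻¹ * δE) ∈ D.autGroup M
      have := conj_mem_autGroup_of_invariant c.invD (hMR.trans inf_le_right) (inv_mem hEF)
        (inv_mem hδD)
      simpa [mul_assoc] using this
    rw [← QuotientGroup.eq_one_iff, ← QuotientGroup.mk'_apply, ← orderOf_eq_one_iff]
    have h1 : orderOf (QuotientGroup.mk' N δ') ∣ m := by
      refine orderOf_dvd_of_pow_eq_one ?_
      rw [← map_pow, show δ' ^ m = 1 from Subtype.ext ?_, map_one]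
      show (δE ^ p ^ k) ^ m = 1
      rw [← hδo]
      exact pow_orderOf_eq_one δ
    have h2 : orderOf (QuotientGroup.mk' N δ') ∣ p ^ j := by
      refine orderOf_dvd_of_pow_eq_one ?_
      rw [hδ', map_pow, hq, ← pow_mul, mul_comm, pow_mul, ← map_pow,
        show σ' ^ p ^ j = 1 from Subtype.ext hσj, map_one, one_pow]
    exact Nat.eq_one_of_dvd_coprimes (hmp.pow_right j) h1 h2
  -- correct the restriction
  obtain ⟨s, hs'⟩ := exists_pow_eq_self_of_coprime (x := x) (hc.symm.pow_left k)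
  have hs : x ^ (p ^ k * s) = x := by rw [pow_mul]; exact hs'
  refine ⟨δ ^ s, ⟨pow_mem (pow_mem hδE _) _, pow_mem hδD' _⟩, ?_, fun y => ?_⟩
  · exact Nat.Coprime.coprime_dvd_left (orderOf_pow_dvd s) (hδo ▸ hmp)
  · rw [hδ, ← pow_mul, hpow, hs]

end Cfsg.Agent.Fusion.Meet
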