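import Cfsg.Agent.Lib.Fusion.Alperin
import Cfsg.Agent.Lib.Fusion.NormalExtensions

/-!
The automorphism groups used for the intersection of two normal subsystems `E` over `T` and `D`
over `T'`, and the system over `T ⊓ T'` generated by them.
-/

set_option autoImplicit false
set_option linter.unusedSectionVars false

namespace Cfsg.Agent.Fusion.Meet

open Cfsg Cfsg.FusionSystem Cfsg.Agent.Fusion

universe u

variable {Ω : Type u} [Group Ω] {S T T' : Subgroup Ω} {F : FusionSystem S} {E : FusionSystem T}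
  {D : FusionSystem T'} {p : ℕ}

/-- Two normal subsystems. -/
structure Ctx (F : FusionSystem S) (E : FusionSystem T) (D : FusionSystem T') (p : ℕ) : Prop where
  hS : IsPGroup p S
  hF : F.IsSaturated p
  hE : E.IsNormalIn F p
  hD : D.IsNormalIn F p

theorem Ctx.symm (c : Ctx F E D p) : Ctx F D E p := ⟨c.hS, c.hF, c.hD, c.hE⟩

theorem Ctx.closedE (c : Ctx F E D p) : F.StronglyClosed T := c.hE.1.2.2.2.1

theorem Ctx.closedD (c : Ctx F E D p) : F.StronglyClosed T' := c.hD.1.2.2.2.1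

theorem Ctx.invE (c : Ctx F E D p) : E.IsInvariantIn F := c.hE.1.2.2

theorem Ctx.invD (c : Ctx F E D p) : D.IsInvariantIn F := c.hD.1.2.2

theorem Ctx.closed (c : Ctx F E D p) : F.StronglyClosed (T ⊓ T') :=
  ⟨inf_le_left.trans c.closedE.1, fun Q hQ φ hφ x =>
    ⟨c.closedE.2 Q (hQ.trans inf_le_left) φ hφ x, c.closedD.2 Q (hQ.trans inf_le_right) φ hφ x⟩⟩

theorem Ctx.le (c : Ctx F E D p) : T ⊓ T' ≤ S := c.closed.1

/-- The automorphisms of `U` in both systems. -/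
abbrev kAut (E : FusionSystem T) (D : FusionSystem T') (U : Subgroup Ω) : Subgroup (MulAut U) :=
  E.autGroup U ⊓ D.autGroup U

/-- The `p'`-elements of `kAut` and the transports of automorphisms induced by `T ⊓ T'`. -/
def gens (F : FusionSystem S) (E : FusionSystem T) (D : FusionSystem T') (p : ℕ) (U : Subgroup Ω) :
    Set (MulAut U) :=
  {a | a ∈ kAut E D U ∧ (orderOf a).Coprime p} ∪
    {a | ∃ (Q : Subgroup Ω) (χ : Q →* Ω) (hχ : χ ∈ F.Hom Q) (hr : χ.range = U),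
      ∃ b ∈ autInducedBy (T ⊓ T') Q, a = MulAut.congr (homEquiv hχ hr) b}

/-- The group they generate. -/
def meetAut (F : FusionSystem S) (E : FusionSystem T) (D : FusionSystem T') (p : ℕ)
    (U : Subgroup Ω) : Subgroup (MulAut U) :=
  Subgroup.closure (gens F E D p U)

theorem meetAut_le_of {U : Subgroup Ω} {H : Subgroup (MulAut U)}
    (h₁ : ∀ a ∈ kAut E D U, (orderOf a).Coprime p → a ∈ H)
    (h₂ : ∀ (Q : Subgroup Ω) (χ : Q →* Ω) (hχ : χ ∈ F.Hom Q) (hr : χ.range = U),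
      ∀ b ∈ autInducedBy (T ⊓ T') Q, MulAut.congr (homEquiv hχ hr) b ∈ H) :
    meetAut F E D p U ≤ H := by
  refine (Subgroup.closure_le _).2 ?_
  rintro a (⟨ha, hc⟩ | ⟨Q, χ, hχ, hr, b, hb, rfl⟩)
  exacts [h₁ a ha hc, h₂ Q χ hχ hr b hb]

theorem mem_meetAut_coprime {U : Subgroup Ω} {a : MulAut U} (ha : a ∈ kAut E D U)
    (hc : (orderOf a).Coprime p) : a ∈ meetAut F E D p U :=
  Subgroup.subset_closure (Or.inl ⟨ha, hc⟩)

theorem mem_meetAut_congr {U Q : Subgroup Ω} {χ : Q →* Ω} (hχ : χ ∈ F.Hom Q) (hr : χ.range = U)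
    {b : MulAut Q} (hb : b ∈ autInducedBy (T ⊓ T') Q) :
    MulAut.congr (homEquiv hχ hr) b ∈ meetAut F E D p U :=
  Subgroup.subset_closure (Or.inr ⟨Q, χ, hχ, hr, b, hb, rfl⟩)

theorem autInducedBy_le_meetAut {U : Subgroup Ω} (hU : U ≤ S) :
    autInducedBy (T ⊓ T') U ≤ meetAut F E D p U := by
  intro a ha
  have h := mem_meetAut_congr (E := E) (D := D) (p := p) (subtype_mem F hU)
    (Subgroup.range_subtype U) ha
  convert h using 1
  refine MulEquiv.ext fun x => ?_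
  exact (congr_apply (homEquiv (subtype_mem F hU) (Subgroup.range_subtype U)) a x).symm

theorem congr_congr {Q P U : Subgroup Ω} {χ : Q →* Ω} (hχ : χ ∈ F.Hom Q) (hχr : χ.range = P)
    {φ : P →* Ω} (hφ : φ ∈ F.Hom P) (hr : φ.range = U) :
    ∃ (ψ : Q →* Ω) (hψ : ψ ∈ F.Hom Q) (hψr : ψ.range = U), ∀ b : MulAut Q,
      MulAut.congr (homEquiv hφ hr) (MulAut.congr (homEquiv hχ hχr) b) =
        MulAut.congr (homEquiv hψ hψr) b := by
  have hv : ∀ x, χ x ∈ P := fun x => hχr.le ⟨x, rfl⟩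
  have hψ := F.comp_mem hχ hφ hv
  have hψr : (φ.comp (χ.codRestrict P hv)).range = U := by
    rw [← hr]
    refine le_antisymm ?_ ?_
    · rintro _ ⟨x, rfl⟩; exact ⟨_, rfl⟩
    · rintro _ ⟨⟨y, hy⟩, rfl⟩
      obtain ⟨x, rfl⟩ := hχr.ge hy
      exact ⟨x, rfl⟩
  refine ⟨_, hψ, hψr, fun b => MulEquiv.ext fun y => ?_⟩
  obtain ⟨z, rfl⟩ := ((homEquiv hχ hχr).trans (homEquiv hφ hr)).surjective y
  have h1 : homEquiv hψ hψr z = (homEquiv hχ hχr).trans (homEquiv hφ hr) z := Subtype.ext rfl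
  rw [MulEquiv.trans_apply, congr_apply, congr_apply]
  rw [show homEquiv hφ hr (homEquiv hχ hχr z) = homEquiv hψ hψr z from h1.symm, congr_apply]
  exact Subtype.ext rfl

variable [Finite S] [Fact p.Prime]

theorem kAut_le_autGroup (c : Ctx F E D p) {U : Subgroup Ω} (hU : U ≤ T ⊓ T') :
    kAut E D U ≤ F.autGroup U :=
  inf_le_left.trans (autGroup_le_of_subsystem c.invE.1 (hU.trans inf_le_left))

theorem congr_mem_kAut (c : Ctx F E D p) {P Q : Subgroup Ω} (hP : P ≤ T ⊓ T') {φ : P →* Ω}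
    (hφ : φ ∈ F.Hom P) (hr : φ.range = Q) {a : MulAut P} (ha : a ∈ kAut E D P) :
    MulAut.congr (homEquiv hφ hr) a ∈ kAut E D Q :=
  ⟨NormalExtensions.congr_mem_E c.invE (hP.trans inf_le_left) hφ hr ha.1,
    NormalExtensions.congr_mem_E c.invD (hP.trans inf_le_right) hφ hr ha.2⟩

theorem congr_mem_meetAut (c : Ctx F E D p) {P Q : Subgroup Ω} (hP : P ≤ T ⊓ T') {φ : P →* Ω}
    (hφ : φ ∈ F.Hom P) (hr : φ.range = Q) {a : MulAut P} (ha : a ∈ meetAut F E D p P) :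
    MulAut.congr (homEquiv hφ hr) a ∈ meetAut F E D p Q := by
  suffices meetAut F E D p P ≤
      (meetAut F E D p Q).comap (MulAut.congr (homEquiv hφ hr)).toMonoidHom from this ha
  refine meetAut_le_of (fun b hb hc => ?_) fun Q₀ χ hχ hχr b hb => ?_
  · refine mem_meetAut_coprime (congr_mem_kAut c hP hφ hr hb) ?_
    show (orderOf (MulAut.congr (homEquiv hφ hr) b)).Coprime p
    rwa [MulEquiv.orderOf_eq]
  · obtain ⟨ψ, hψ, hψr, he⟩ := congr_congr hχ hχr hφ hr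
    show MulAut.congr (homEquiv hφ hr) (MulAut.congr (homEquiv hχ hχr) b) ∈ meetAut F E D p Q
    rw [he]
    exact mem_meetAut_congr hψ hψr hb

theorem meetAut_le_kAut (c : Ctx F E D p) {U : Subgroup Ω} (hU : U ≤ T ⊓ T') :
    meetAut F E D p U ≤ kAut E D U := by
  refine meetAut_le_of (fun a ha _ => ha) fun Q χ hχ hr b hb => ?_
  have hQ : Q ≤ T ⊓ T' := by
    intro x hx
    obtain ⟨η, hη, -, hηi, -⟩ := exists_inverse hχ hr
    have h1 := hηi ⟨x, hx⟩ (hr.le ⟨_, rfl⟩)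
    exact Set.mem_of_eq_of_mem h1.symm (c.closed.2 U hU η hη _)
  refine congr_mem_kAut c hQ hχ hr ⟨?_, ?_⟩
  · exact autInducedBy_le_autGroup E (hQ.trans inf_le_left) (autInducedBy_mono inf_le_left hb)
  · exact autInducedBy_le_autGroup D (hQ.trans inf_le_right) (autInducedBy_mono inf_le_right hb)

theorem meetAut_le_autGroup (c : Ctx F E D p) {U : Subgroup Ω} (hU : U ≤ T ⊓ T') :
    meetAut F E D p U ≤ F.autGroup U :=
  (meetAut_le_kAut c hU).trans (kAut_le_autGroup c hU)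

/-- `U ≤ R` and every conjugate `U'` of `U` contains `C_R(U')`. -/
structure InH (F : FusionSystem S) (R : Subgroup Ω) (U : Subgroup Ω) : Prop where
  le : U ≤ R
  le_S : R ≤ S
  closed : F.StronglyClosed R
  cent : ∀ U' : Subgroup Ω, F.IsConj U U' → centralizerIn R U' ≤ U'

theorem InH.image {R U U' : Subgroup Ω} (h : InH F R U) {φ : U →* Ω} (hφ : φ ∈ F.Hom U)
    (hr : φ.range = U') : InH F R U' :=
  ⟨by rw [← hr]; rintro _ ⟨x, rfl⟩; exact h.closed.2 U h.le φ hφ x, h.le_S, h.closed,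
    fun U'' h' => h.cent U'' (isConj_trans ⟨φ, hφ, hr⟩ h')⟩

theorem InH.centralizer_le {R U : Subgroup Ω} (h : InH F R U) : centralizerIn R U ≤ U :=
  h.cent U (isConj_refl F (h.le.trans h.le_S))

theorem InH.mono {R U M : Subgroup Ω} (h : InH F R U) (hUM : U ≤ M) (hM : M ≤ R) : InH F R M := by
  refine ⟨hM, h.le_S, h.closed, ?_⟩
  rintro M' ⟨φ, hφ, rfl⟩
  have h1 := h.cent _ ⟨_, restrict_mem hφ hUM, rfl⟩
  have hle : (φ.comp (Subgroup.inclusion hUM)).range ≤ φ.range := by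
    rintro _ ⟨x, rfl⟩
    exact ⟨_, rfl⟩
  exact ((centralizerIn_anti hle).trans h1).trans hle

/-- Carried by an automorphism of `R` in `F` to a fully normalized subgroup. -/
def Top (F : FusionSystem S) (R U : Subgroup Ω) : Prop :=
  U ≤ R ∧ ∃ α ∈ F.autGroup R,
    F.IsFullyNormalized ((U.subgroupOf R).map (R.subtype.comp α.toMonoidHom))

/-- The system over `T ⊓ T'` of the maps in both systems. -/
def bothSystem (c : Ctx F E D p) : FusionSystem (T ⊓ T') where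
  Hom P := {φ | P ≤ T ⊓ T' ∧ φ ∈ E.Hom P ∧ φ ∈ D.Hom P}
  le_of_mem h := ⟨h.1, fun x => ⟨apply_mem h.2.1 x, apply_mem h.2.2 x⟩⟩
  injective_of_mem h := E.injective_of_mem h.2.1
  conj_mem hP hg :=
    ⟨hP, E.conj_mem (hP.trans inf_le_left) hg.1, D.conj_mem (hP.trans inf_le_right) hg.2⟩
  comp_mem hφ hψ h := ⟨hφ.1, E.comp_mem hφ.2.1 hψ.2.1 h, D.comp_mem hφ.2.2 hψ.2.2 h⟩
  inv_mem := by
    intro P φ hφ
    obtain ⟨ψ, hψ, hi⟩ := E.inv_mem hφ.2.1
    refine ⟨ψ, ⟨?_, hψ, inv_mem' hφ.2.2 rfl fun x _ => hi x⟩, hi⟩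
    rintro _ ⟨x, rfl⟩
    exact ⟨apply_mem hφ.2.1 x, apply_mem hφ.2.2 x⟩

/-- A system contains the `p'`-elements of `kAut` at the subgroups of `InH`. -/
def Large (F : FusionSystem S) (E : FusionSystem T) (D : FusionSystem T') (p : ℕ)
    (X : FusionSystem (T ⊓ T')) : Prop :=
  ∀ M : Subgroup Ω, InH F (T ⊓ T') M → ∀ a ∈ kAut E D M, (orderOf a).Coprime p →
    M.subtype.comp a.toMonoidHom ∈ X.Hom M

/-- The least such system. -/
def meetSystem (c : Ctx F E D p) : FusionSystem (T ⊓ T') :=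
  subsystemOf (bothSystem c) (fun P φ => ∀ X₀, Large F E D p X₀ → φ ∈ X₀.Hom P)
    (fun _ _ hP hg X₀ _ => X₀.conj_mem hP hg)
    (fun _ _ _ _ _ _ hφ hψ h X₀ hX => X₀.comp_mem (hφ X₀ hX) (hψ X₀ hX) h)
    (fun _ φ ψ _ hφ _ hi X₀ hX => inv_mem' (hφ X₀ hX) rfl fun x _ => hi x)

theorem meetSystem_le (c : Ctx F E D p) {P : Subgroup Ω} {φ : P →* Ω}
    (h : φ ∈ (meetSystem c).Hom P) : P ≤ T ⊓ T' ∧ φ ∈ E.Hom P ∧ φ ∈ D.Hom P := h.1

theorem meetSystem_sub (c : Ctx F E D p) : (meetSystem c).IsSubsystemOf F := fun P _ h =>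
  c.invE.1 P (meetSystem_le c h).2.1

theorem large_meetSystem (c : Ctx F E D p) : Large F E D p (meetSystem c) := by
  intro M hM a ha hc
  exact ⟨⟨hM.le, (mem_autGroup_iff (hM.le.trans inf_le_left)).1 ha.1,
    (mem_autGroup_iff (hM.le.trans inf_le_right)).1 ha.2⟩, fun _ hX => hX M hM a ha hc⟩

theorem autGroup_meetSystem_le (c : Ctx F E D p) {U : Subgroup Ω} (hU : U ≤ T ⊓ T') :
    (meetSystem c).autGroup U ≤ kAut E D U := fun a ha => by
  obtain ⟨-, h₁, h₂⟩ := meetSystem_le c ((mem_autGroup_iff hU).1 ha)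
  exact ⟨(mem_autGroup_iff (hU.trans inf_le_left)).2 h₁,
    (mem_autGroup_iff (hU.trans inf_le_right)).2 h₂⟩

/-- Induction over the maps of the least system. -/
theorem meetSystem_induction (c : Ctx F E D p) (C : ∀ P : Subgroup Ω, (P →* Ω) → Prop)
    (hconj : ∀ (P : Subgroup Ω) (g : Ω), P ≤ T ⊓ T' → g ∈ T ⊓ T' → C P (conjHom P g))
    (hcomp : ∀ (P Q : Subgroup Ω) (φ : P →* Ω) (ψ : Q →* Ω), φ ∈ (meetSystem c).Hom P →
      ψ ∈ (meetSystem c).Hom Q → C P φ → C Q ψ → ∀ h : ∀ x : P, φ x ∈ Q,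
        C P (ψ.comp (φ.codRestrict Q h)))
    (hinv : ∀ (P : Subgroup Ω) (φ : P →* Ω) (ψ : φ.range →* Ω), φ ∈ (meetSystem c).Hom P →
      C P φ → ψ ∈ (meetSystem c).Hom φ.range →
      (∀ x : P, ψ ⟨φ x, ⟨x, rfl⟩⟩ = (x : Ω)) → C φ.range ψ)
    (hgen : ∀ M : Subgroup Ω, InH F (T ⊓ T') M → ∀ a ∈ kAut E D M, (orderOf a).Coprime p →
      C M (M.subtype.comp a.toMonoidHom))
    {P : Subgroup Ω} {φ : P →* Ω} (hφ : φ ∈ (meetSystem c).Hom P) : C P φ :=
  (hφ.2 (subsystemOf (meetSystem c) C hconj hcomp hinv) fun M hM a ha hc =>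
    ⟨large_meetSystem c M hM a ha hc, hgen M hM a ha hc⟩).2

end Cfsg.Agent.Fusion.Meet
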