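import Cfsg.Agent.Lib.Fusion.Meet.Aut
import Cfsg.Agent.Lib.Fusion.GroupHyperfocal

/-!
For fully normalized `U` the elements of order prime to `p` of both systems generate a group meeting
`Aut_S(U)` inside `Aut_{T ⊓ T'}(U)`.
-/

set_option autoImplicit false
set_option linter.unusedSectionVars false

namespace Cfsg.Agent.Fusion.Meet

open Cfsg Cfsg.FusionSystem Cfsg.Agent.Fusion Cfsg.Agent.Fusion.NormalCentralizer
open scoped Pointwise

universe u

variable {Ω : Type u} [Group Ω] {S T T' : Subgroup Ω} {F : FusionSystem S} {E : FusionSystem T}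
  {D : FusionSystem T'} {p : ℕ}
variable [Finite S] [Fact p.Prime]

/-- The automorphisms induced by `S` lying in a normal subsystem are induced by its base. -/
theorem autInducedBy_inf_autGroup_le (hS : IsPGroup p S) (hE : E.IsWeaklyNormalIn F p)
    {U : Subgroup Ω} (hUT : U ≤ T) (hUn : F.IsFullyNormalized U) :
    autInducedBy S U ⊓ E.autGroup U ≤ autInducedBy T U := by
  obtain ⟨hEs, hF, hEi⟩ := hE
  have hTS := hEi.2.1.1
  have := finite_of_le (Ω := Ω) hTS
  obtain ⟨-, Y, hY⟩ := isFullyAutomized_of_fullyNormalized (hS.to_le hTS) hEs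
    (NormalExtensions.isFullyNormalized_sub hS hF hEi.1 hEi.2.1 hUT hUn)
  have hP : IsPGroup p ((autInducedBy S U ⊓ E.autGroup U).subgroupOf (E.autGroup U)) :=
    ((isPGroup_autInducedBy hS U).to_le inf_le_left).comap_subtype
  have h := Y.3 hP (by
    rw [hY]
    exact fun a ha => ⟨autInducedBy_mono hTS ha, a.2⟩)
  intro a ha
  have h1 : (⟨a, ha.2⟩ : E.autGroup U) ∈
      (autInducedBy S U ⊓ E.autGroup U).subgroupOf (E.autGroup U) := ha
  rw [h, hY] at h1
  exact h1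

/-- `|C| = |Aut_C(Q)| |C_S(Q)|` for `C_S(Q) ≤ C ≤ N_S(Q)`. -/
theorem card_autInducedBy_mul {Q C : Subgroup Ω} (hC : C ≤ normalizerIn S Q)
    (hCQ : centralizerIn S Q ≤ C) :
    Nat.card C = Nat.card (autInducedBy C Q) * Nat.card (centralizerIn S Q) := by
  let f : C →* MulAut Q :=
    Q.normalizerMonoidHom.comp (Subgroup.inclusion (hC.trans inf_le_right))
  have hr : f.range = autInducedBy C Q := by
    ext a
    constructor
    · rintro ⟨g, rfl⟩
      exact mem_autInducedBy_iff.2 ⟨g, g.2, fun x => rfl⟩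
    · intro ha
      obtain ⟨g, hg, hx⟩ := mem_autInducedBy_iff.1 ha
      exact ⟨⟨g, hg⟩, MulEquiv.ext fun x => Subtype.ext (hx x).symm⟩
  have hk : Nat.card f.ker = Nat.card (centralizerIn S Q) := by
    refine Nat.card_congr
      { toFun := fun g => ⟨((g : C) : Ω), (hC (g : C).2).1,
          Subgroup.mem_centralizer_iff.2 fun x hx => ?_⟩
        invFun := fun g => ⟨⟨g, hCQ g.2⟩, ?_⟩
        left_inv := fun g => rfl
        right_inv := fun g => rfl }
    · have h1 : ((g : C) : Ω) * x * ((g : C) : Ω)⁻¹ = x :=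
        congrArg (fun a : MulAut Q => ((a ⟨x, hx⟩ : Q) : Ω)) g.2
      calc x * ((g : C) : Ω) = ((g : C) : Ω) * x * ((g : C) : Ω)⁻¹ * ((g : C) : Ω) := by rw [h1]
        _ = ((g : C) : Ω) * x := by group
    · refine MulEquiv.ext fun x => Subtype.ext ?_
      show (g : Ω) * x * (g : Ω)⁻¹ = x
      rw [← (mem_centralizerIn.1 g.2).2 x x.2, mul_inv_cancel_right]
  rw [Subgroup.card_eq_card_quotient_mul_card_subgroup f.ker, hk,
    Nat.card_congr (QuotientGroup.quotientKerEquivRange f).toEquiv, hr]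

/-- A subgroup and its join with its centralizer move together to fully normalized ones. -/
theorem exists_move (hS : IsPGroup p S) (hF : F.IsSaturated p) {Q : Subgroup Ω} (hQ : Q ≤ S) :
    ∃ ω ∈ F.Hom (normalizerIn S Q),
      F.IsFullyNormalized ((Q.subgroupOf (normalizerIn S Q)).map ω) ∧
      F.IsFullyNormalized (rc S ((Q.subgroupOf (normalizerIn S Q)).map ω)) := by
  obtain ⟨Q₁, hQQ₁, hQ₁⟩ := exists_fullyNormalized F hQ
  obtain ⟨χ₁, hχ₁, hχ₁N, hχ₁Q⟩ := exists_hom_fullyNormalized hS hF hQ₁ hQQ₁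
  have hQ₁C := isFullyCentralized_of_fullyNormalized hS hF hQ₁
  set Y₁ := rc S Q₁ with hY₁
  have hQ₁S := hQ₁.1
  have hY₁S : Y₁ ≤ S := sup_le hQ₁S (centralizerIn_le S Q₁)
  obtain ⟨Y₂, hYY₂, hY₂⟩ := exists_fullyNormalized F hY₁S
  obtain ⟨χ₂, hχ₂, hχ₂N, hχ₂Y⟩ := exists_hom_fullyNormalized hS hF hY₂ hYY₂
  have hN₁Y : normalizerIn S Q₁ ≤ normalizerIn S Y₁ := fun g hg =>
    ⟨hg.1, KNorm.normalizer_inf_normalizer_le_normalizer_sup
      ⟨hg.2, NormalExtensions.mem_normalizer_centralizerIn hg.1 hg.2⟩⟩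
  have hω₁ : ∀ g, χ₁ g ∈ normalizerIn S Y₁ := fun g => hN₁Y (hχ₁N g)
  refine ⟨χ₂.comp (χ₁.codRestrict (normalizerIn S Y₁) hω₁), F.comp_mem hχ₁ hχ₂ hω₁, ?_⟩
  have hQ₁le : Q₁ ≤ normalizerIn S Y₁ := (le_normalizerIn hQ₁S).trans hN₁Y
  set Q₂ := (Q₁.subgroupOf (normalizerIn S Y₁)).map χ₂ with hQ₂
  have hω : (Q.subgroupOf (normalizerIn S Q)).map
      (χ₂.comp (χ₁.codRestrict (normalizerIn S Y₁) hω₁)) = Q₂ := by
    ext z
    constructor
    · rintro ⟨g, hg, rfl⟩
      exact ⟨⟨χ₁ g, hω₁ g⟩, hχ₁Q.le ⟨g, hg, rfl⟩, rfl⟩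
    · rintro ⟨⟨y, hy⟩, hyQ, rfl⟩
      obtain ⟨g, hg, rfl⟩ := hχ₁Q.ge (Subgroup.mem_subgroupOf.1 hyQ)
      exact ⟨g, hg, rfl⟩
  rw [hω]
  have hconjQ : F.IsConj Q₁ Q₂ := ⟨_, restrict_mem hχ₂ hQ₁le, by
    rw [MonoidHom.range_comp, Subgroup.inclusion_range]⟩
  have hQ₂S : Q₂ ≤ S := (isConj_le hconjQ).2
  have hQ₂F : F.IsFullyNormalized Q₂ := by
    refine ⟨hQ₂S, fun Q' hQ' => (hQ₁.2 Q' (isConj_trans hconjQ hQ')).trans ?_⟩
    have := finite_of_le (Ω := Ω) (normalizerIn_le S Q₂)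
    have hmem := Criterion.mem_normalizerIn_of_map (restrict_mem hχ₂ hN₁Y)
      (inf_le_right : normalizerIn S Q₁ ≤ Subgroup.normalizer (Q₁ : Set Ω)) (Q' := Q₂) (by
        rw [← Subgroup.map_map]
        congr 1
        ext z
        exact ⟨fun ⟨w, hw, hwz⟩ => hwz ▸ hw, fun hz => ⟨⟨z, le_normalizerIn hQ₁S hz⟩, hz, rfl⟩⟩)
    refine Nat.card_le_card_of_injective (fun g => (⟨_, hmem g⟩ : normalizerIn S Q₂))
      fun a b h => ?_
    exact Subgroup.inclusion_injective hN₁Y (F.injective_of_mem hχ₂ (congrArg Subtype.val h))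
  refine ⟨hQ₂F, ?_⟩
  have hY₂eq : Y₂ = rc S Q₂ := by
    have hC₁le : centralizerIn S Q₁ ≤ normalizerIn S Y₁ :=
      (centralizerIn_le_normalizerIn S Q₁).trans hN₁Y
    have := finite_of_le (Ω := Ω) (centralizerIn_le S Q₂)
    have h2 : ((centralizerIn S Q₁).subgroupOf (normalizerIn S Y₁)).map χ₂ =
        centralizerIn S Q₂ := by
      refine Subgroup.eq_of_le_of_card_ge ?_ ?_
      · rintro _ ⟨c, hc, rfl⟩
        refine mem_centralizerIn.2 ⟨apply_mem hχ₂ c, ?_⟩
        rintro _ ⟨n, hn, rfl⟩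
        rw [← map_mul, ← map_mul]
        exact congrArg χ₂ (Subtype.ext ((mem_centralizerIn.1 hc).2 _ hn))
      · rw [Subgroup.card_map_of_injective (F.injective_of_mem hχ₂),
          Nat.card_congr (Subgroup.subgroupOfEquivOfLe hC₁le).toEquiv]
        exact hQ₁C.2 _ hconjQ
    rw [← hχ₂Y]
    show ((Q₁ ⊔ centralizerIn S Q₁).subgroupOf (normalizerIn S Y₁)).map χ₂ = _
    rw [Subgroup.subgroupOf_sup hQ₁le hC₁le, Subgroup.map_sup, h2]
  exact hY₂eq ▸ hY₂

/-- An automorphism in `E` of `Q` stabilizing `U ≤ Q` agrees on `U` with a map on `Q C_S(U)` trivial on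
`C_S(U)` modulo `T`. -/
theorem exists_ext_core (hS : IsPGroup p S) (hE : E.IsNormalIn F p) {U Q : Subgroup Ω} (hUQ : U ≤ Q)
    (hUc : F.IsFullyCentralized U)
    (hCQ : centralizerIn S U ≤ Subgroup.normalizer (Q : Set Ω)) (hQc : E.IsCentric Q)
    (hQn : F.IsFullyNormalized Q) (hYn : F.IsFullyNormalized (rc S Q)) {a₁ : MulAut Q}
    (ha₁ : a₁ ∈ E.autGroup Q) {a : MulAut U}
    (hau : ∀ x : U, ((a₁ (Subgroup.inclusion hUQ x) : Q) : Ω) = ((a x : U) : Ω))
    (hc : (orderOf a).Coprime p) :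
    ∃ γ ∈ F.Hom (Q ⊔ centralizerIn S U), (∀ y, γ y ∈ Q ⊔ centralizerIn S U) ∧
      (∀ x : U, γ (Subgroup.inclusion (hUQ.trans le_sup_left) x) = ((a x : U) : Ω)) ∧
      ∀ y : ↥(Q ⊔ centralizerIn S U), (y : Ω) ∈ centralizerIn S U → (y : Ω)⁻¹ * γ y ∈ T := by
  classical
  have hE' := hE
  obtain ⟨⟨hEs, hF, hEi⟩, -⟩ := hE'
  have hT : F.StronglyClosed T := hEi.2.1
  have hTS := hT.1
  have hTn := le_normalizer_of_stronglyClosed hT
  have hQT : Q ≤ T := hQc.1
  have hQS : Q ≤ S := hQn.1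
  have hUS : U ≤ S := hUQ.trans hQS
  have := finite_mulAut (Ω := Ω) hQS
  have := finite_of_le (Ω := Ω) hQS
  set C := centralizerIn S U with hC
  have hCS : C ≤ S := centralizerIn_le S U
  have hsub := autGroup_le_of_subsystem hEi.1 hQT
  have hauinv : ∀ x : U, a₁⁻¹ (Subgroup.inclusion hUQ x) = Subgroup.inclusion hUQ (a⁻¹ x) := by
    intro x
    have h1 : a₁ (Subgroup.inclusion hUQ (a⁻¹ x)) = Subgroup.inclusion hUQ x := Subtype.ext (by
      rw [hau, MulAut.apply_inv_self]; rfl)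
    rw [← h1, MulAut.inv_apply_self]
  -- the stabilizer of `U` pointwise
  let Kq : Subgroup (MulAut Q) :=
    { carrier := {β | β ∈ F.autGroup Q ∧ ∀ x : Q, (x : Ω) ∈ U → β x = x}
      one_mem' := ⟨one_mem _, fun _ _ => rfl⟩
      mul_mem' := fun {b b'} hb hb' => ⟨mul_mem hb.1 hb'.1, fun x hx => by
        rw [MulAut.mul_apply, hb'.2 x hx, hb.2 x hx]⟩
      inv_mem' := fun {b} hb => ⟨inv_mem hb.1, fun x hx => by
        conv_lhs => rw [← hb.2 x hx]
        exact MulAut.inv_apply_self _ b x⟩ }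
  set Sg₀ := autInducedBy C Q with hSg
  have hSgK : Sg₀ ≤ Kq := by
    intro β hβ
    obtain ⟨g, hg, he⟩ := mem_autInducedBy_iff.1 hβ
    exact ⟨autInducedBy_le_autGroup F hQS (autInducedBy_mono hCS hβ), fun x hx => Subtype.ext (by
      rw [he, ← (mem_centralizerIn.1 hg).2 x hx, mul_inv_cancel_right])⟩
  have hSgp : IsPGroup p Sg₀ := (isPGroup_autInducedBy hS Q).to_le (autInducedBy_mono hCS)
  obtain ⟨-, Y₀, hY₀⟩ := isFullyAutomized_of_fullyNormalized hS hF hQn
  have hsyl : ∀ P : Subgroup (MulAut Q), IsPGroup p P → Sg₀ ≤ P → P ≤ Kq → P = Sg₀ := by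
    intro P hP hSgP hPK
    have hPF : P ≤ F.autGroup Q := fun x hx => (hPK hx).1
    obtain ⟨W₂, hW₂⟩ := (hP.comap_subtype (K := F.autGroup Q) :
      IsPGroup p (P.subgroupOf (F.autGroup Q))).exists_le_sylow
    obtain ⟨q, hq⟩ := MulAction.exists_smul_eq (F.autGroup Q) W₂ Y₀
    set P' := P.map (MulAut.conj (q : MulAut Q)).toMonoidHom with hP'
    have hP'S : ∀ b ∈ P', b ∈ autInducedBy S Q := by
      rintro _ ⟨b, hb, rfl⟩
      have h1 : q * ⟨b, hPF hb⟩ * q⁻¹ ∈ (Y₀ : Subgroup (F.autGroup Q)) := by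
        rw [← hq, Sylow.coe_subgroup_smul]
        exact Subgroup.smul_mem_pointwise_smul _ (MulAut.conj q) _ (hW₂ hb)
      rw [hY₀] at h1
      exact h1
    obtain ⟨hqh, -⟩ := hom_of_mem_autGroup hQS q.2
    set φU := (Q.subtype.comp (q : MulAut Q).toMonoidHom).comp (Subgroup.inclusion hUQ) with hφU
    have hφUF : φU ∈ F.Hom U := restrict_mem hqh hUQ
    set U₁ := φU.range with hU₁
    have hU₁Q : U₁ ≤ Q := by rintro _ ⟨x, rfl⟩; exact ((q : MulAut Q) _).2
    set C' := centralizerIn S U₁ ⊓ Subgroup.normalizer (Q : Set Ω) with hC'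
    have hP'C : P' ≤ autInducedBy C' Q := by
      intro b hb
      obtain ⟨s, hs, hse⟩ := mem_autInducedBy_iff.1 (hP'S b hb)
      obtain ⟨b₀, hb₀, rfl⟩ := hb
      refine mem_autInducedBy_iff.2 ⟨s, ⟨⟨hs, Subgroup.mem_centralizer_iff.2 ?_⟩,
        mem_normalizer_of_aut hse⟩, hse⟩
      rintro _ ⟨x, rfl⟩
      have h1 := hse ((q : MulAut Q) (Subgroup.inclusion hUQ x))
      rw [show (MulAut.conj (q : MulAut Q)).toMonoidHom b₀ ((q : MulAut Q) (Subgroup.inclusion hUQ x))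
        = (q : MulAut Q) (b₀ ((q : MulAut Q)⁻¹ ((q : MulAut Q) (Subgroup.inclusion hUQ x)))) from rfl,
        MulAut.inv_apply_self, (hPK hb₀).2 _ x.2] at h1
      calc φU x * s = s * φU x * s⁻¹ * s :=
            congrArg (· * s) (show φU x = s * φU x * s⁻¹ from h1)
        _ = s * φU x := by group
    have hCN : C ≤ normalizerIn S Q := le_inf hCS hCQ
    have hQC : centralizerIn S Q ≤ C := centralizerIn_anti hUQ
    have hC'N : C' ≤ normalizerIn S Q := fun s hs => ⟨hs.1.1, hs.2⟩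
    have hQC' : centralizerIn S Q ≤ C' :=
      le_inf (centralizerIn_anti hU₁Q) ((centralizerIn_le_normalizerIn S Q).trans inf_le_right)
    have hcard : Nat.card (autInducedBy C' Q) ≤ Nat.card Sg₀ := by
      have h1 : Nat.card C' ≤ Nat.card C :=
        (card_le_of_le (S := S) (centralizerIn_le S U₁) inf_le_left).trans (hUc.2 _ ⟨φU, hφUF, rfl⟩)
      rw [card_autInducedBy_mul hC'N hQC', card_autInducedBy_mul hCN hQC] at h1
      have := finite_of_le (Ω := Ω) (centralizerIn_le S Q)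
      exact Nat.le_of_mul_le_mul_right h1 Nat.card_pos
    refine (Subgroup.eq_of_le_of_card_ge hSgP ?_).symm
    refine (le_trans (le_of_eq ?_) (Subgroup.card_le_of_le hP'C)).trans hcard
    exact (Nat.card_congr (P.equivMapOfInjective _ (MulAut.conj (q : MulAut Q)).injective).toEquiv)
  -- Frattini
  set N₀ := Kq ⊓ E.autGroup Q with hN₀
  have hSgN : Sg₀ ≤ Subgroup.normalizer (N₀ : Set (MulAut Q)) := fun s hs =>
    Transfer.mem_normalizer_of_conj_mem fun n hn =>
      ⟨Kq.mul_mem (Kq.mul_mem (hSgK hs) hn.1) (Kq.inv_mem (hSgK hs)),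
        conj_mem_autGroup_of_invariant hEi hQT (hSgK hs).1 hn.2⟩
  have hKconj : ∀ n ∈ Kq, a₁ * n * a₁⁻¹ ∈ Kq := fun n hn => by
    refine ⟨mul_mem (mul_mem (hsub ha₁) hn.1) (inv_mem (hsub ha₁)), fun x hx => ?_⟩
    have h1 : n (a₁⁻¹ x) = a₁⁻¹ x := hn.2 _ (by
      rw [show x = Subgroup.inclusion hUQ ⟨x, hx⟩ from rfl, hauinv]
      exact (a⁻¹ ⟨(x : Ω), hx⟩).2)
    rw [MulAut.mul_apply, MulAut.mul_apply, h1, MulAut.apply_inv_self]
  set G1 := Sg₀ ⊔ N₀ with hG1
  have hG1K : G1 ≤ Kq := sup_le hSgK inf_le_left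
  have hconjG : ∀ g ∈ Sg₀, a₁ * g * a₁⁻¹ ∈ G1 := by
    intro g hg
    have hg' := hSgK hg
    have h1 : a₁ * (g * a₁⁻¹ * g⁻¹) ∈ N₀ := by
      refine ⟨?_, mul_mem ha₁
        (conj_mem_autGroup_of_invariant hEi hQT hg'.1 (inv_mem ha₁))⟩
      rw [show a₁ * (g * a₁⁻¹ * g⁻¹) = a₁ * g * a₁⁻¹ * g⁻¹ by group]
      exact Kq.mul_mem (hKconj g hg') (Kq.inv_mem hg')
    have h2 := G1.mul_mem (Subgroup.mem_sup_right h1) (Subgroup.mem_sup_left hg : g ∈ G1)
    rwa [show a₁ * (g * a₁⁻¹ * g⁻¹) * g = a₁ * g * a₁⁻¹ by group] at h2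
  obtain ⟨n, hn, hnSg⟩ : ∃ n ∈ N₀, ∀ g ∈ Sg₀, (n * a₁) * g * (n * a₁)⁻¹ ∈ Sg₀ := by
    set Sg₁ := Sg₀.map (MulAut.conj a₁).toMonoidHom with hSg₁
    have hSg₁G : Sg₁ ≤ G1 := by rintro _ ⟨g, hg, rfl⟩; exact hconjG g hg
    have hp0 : IsPGroup p (Sg₀.subgroupOf G1) := hSgp.comap_subtype
    obtain ⟨W, hW⟩ := hp0.exists_le_sylow
    have hWeq : (W : Subgroup G1).map G1.subtype = Sg₀ :=
      hsyl _ (W.isPGroup'.map _)
        (fun g hg => ⟨⟨g, Subgroup.mem_sup_left hg⟩, hW hg, rfl⟩)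
        ((Subgroup.map_subtype_le _).trans hG1K)
    obtain ⟨W', hW'⟩ := ((hSgp.map (MulAut.conj a₁).toMonoidHom).comap_subtype (K := G1) :
      IsPGroup p (Sg₁.subgroupOf G1)).exists_le_sylow
    obtain ⟨g, hg⟩ := MulAction.exists_smul_eq G1 W' W
    have hgm : (g : MulAut Q) ∈ ((Sg₀ ⊔ N₀ : Subgroup (MulAut Q)) : Set (MulAut Q)) := g.2
    rw [Subgroup.coe_mul_of_left_le_normalizer_right _ _ hSgN] at hgm
    obtain ⟨s, hs, n, hn, hsn⟩ := hgm
    refine ⟨n, hn, fun x hx => ?_⟩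
    have h1 : g * ⟨_, hSg₁G ⟨x, hx, rfl⟩⟩ * g⁻¹ ∈ (W : Subgroup G1) := by
      rw [← hg, Sylow.coe_subgroup_smul]
      exact Subgroup.smul_mem_pointwise_smul _ (MulAut.conj g) _ (hW' ⟨x, hx, rfl⟩)
    have h2 : (g : MulAut Q) * (a₁ * x * a₁⁻¹) * (g : MulAut Q)⁻¹ ∈ Sg₀ :=
      hWeq.le ⟨_, h1, rfl⟩
    rw [← hsn] at h2
    have h3 := Sg₀.mul_mem (Sg₀.mul_mem (Sg₀.inv_mem hs) h2) hs
    rwa [show s⁻¹ * (s * n * (a₁ * x * a₁⁻¹) * (s * n)⁻¹) * s = n * a₁ * x * (n * a₁)⁻¹ by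
      group] at h3
  set b := n * a₁ with hb
  have hbE : b ∈ E.autGroup Q := mul_mem hn.2 ha₁
  have hbu : ∀ x : U, b (Subgroup.inclusion hUQ x) = Subgroup.inclusion hUQ (a x) := fun x => by
    rw [hb, MulAut.mul_apply, show a₁ (Subgroup.inclusion hUQ x) = Subgroup.inclusion hUQ (a x) from
      Subtype.ext (hau x), hn.1.2 _ (a x).2]
  have hbupow : ∀ (i : ℕ) (x : U),
      (b ^ i) (Subgroup.inclusion hUQ x) = Subgroup.inclusion hUQ ((a ^ i) x) := by
    intro i
    induction i with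
    | zero => exact fun x => rfl
    | succ i ih =>
      intro x
      rw [pow_succ, pow_succ]
      exact (congrArg (b ^ i) (hbu x)).trans (ih _)
  -- extend to `Y = Q C_S(Q)`
  set Y := rc S Q with hY
  obtain ⟨k, β₁, hβ₁, -, hβ₁Q, hβ₁C⟩ := NormalCentralizer.exists_coprime_ext (p := p) hQS
    (NormalExtensions.autGroup_le_bExt hS hE hQc hQn hbE)
  set b' := b ^ p ^ k with hb'
  have hb'Sg : ∀ g ∈ Sg₀, b' * g * b'⁻¹ ∈ Sg₀ := by
    have key : ∀ i : ℕ, ∀ g ∈ Sg₀, b ^ i * g * (b ^ i)⁻¹ ∈ Sg₀ := by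
      intro i
      induction i with
      | zero => intro g hg; simpa using hg
      | succ i ih =>
        intro g hg
        have := ih _ (hnSg g hg)
        rw [pow_succ, mul_inv_rev]
        simpa [mul_assoc] using this
    exact key _
  have hYS : Y ≤ S := sup_le hQS (centralizerIn_le S Q)
  have hcenT : centralizerIn T Q ≤ Q := hQc.2 Q (isConj_refl E hQT)
  have hTY : T ⊓ Y = Q := by
    refine le_antisymm ?_ (le_inf hQT le_sup_left)
    rintro x ⟨hxT, hxY⟩
    have hx1 : x ∈ ((Q ⊔ centralizerIn S Q : Subgroup Ω) : Set Ω) := hxY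
    rw [Subgroup.coe_mul_of_left_le_normalizer_right Q _ ?_] at hx1
    · obtain ⟨q, hq, z, hz, rfl⟩ := hx1
      have hzT : z ∈ T := by simpa using T.mul_mem (T.inv_mem (hQT hq)) hxT
      exact Q.mul_mem hq (hcenT ⟨hzT, hz.2⟩)
    · exact fun q hq =>
        NormalExtensions.mem_normalizer_centralizerIn (hQS hq) (Subgroup.le_normalizer hq)
  have hpresQ : ∀ g : MulAut Y, g ∈ F.autGroup Y → ∀ y : Y, (y : Ω) ∈ Q → ((g y : Y) : Ω) ∈ Q :=
    fun g hg y hy => hTY.le ⟨apply_mem_of_stronglyClosed hT hYS hg (hQT hy), (g y).2⟩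
  have hfixS : fixingTranslations F Y Q ≤ autInducedBy S Y := by
    intro β hβ
    refine map_pCore_le_autInducedBy (isFullyAutomized_of_fullyNormalized hS hF hYn) ?_
    set O := (fixingTranslations F Y Q).subgroupOf (F.autGroup Y) with hOdef
    have : O.Normal := ⟨fun x hx y => mem_fixingTranslations_conj y.2 (hpresQ _ y.2)
      (hpresQ _ (inv_mem y.2)) hx⟩
    have hOp : IsPGroup p O := (isPGroup_fixingTranslations hS hYS).comap_of_injective
      (F.autGroup Y).subtype (Subgroup.subtype_injective _)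
    exact ⟨⟨β, hβ.1⟩, PCore.le_pCore hOp hβ, rfl⟩
  have hNY : ∀ g ∈ S, g ∈ Subgroup.normalizer (Q : Set Ω) → g ∈ Subgroup.normalizer (Y : Set Ω) :=
    fun g hg hgQ => KNorm.normalizer_inf_normalizer_le_normalizer_sup
      ⟨hgQ, NormalExtensions.mem_normalizer_centralizerIn hg hgQ⟩
  have hgen : ∀ y : Y, (y : Ω)⁻¹ * ((β₁ y : Y) : Ω) ∈ T := by
    intro y
    have hyY : (y : Ω) ∈ ((Q ⊔ centralizerIn S Q : Subgroup Ω) : Set Ω) := y.2
    rw [Subgroup.coe_mul_of_left_le_normalizer_right Q _ (fun q hq =>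
      NormalExtensions.mem_normalizer_centralizerIn (hQS hq) (Subgroup.le_normalizer hq))] at hyY
    obtain ⟨q, hq, z, hz, hqz⟩ := hyY
    have hy : y = Subgroup.inclusion le_sup_left ⟨q, hq⟩ * ⟨z, Subgroup.mem_sup_right hz⟩ :=
      Subtype.ext hqz.symm
    rw [hy, map_mul, Subgroup.coe_mul, Subgroup.coe_mul, hβ₁Q]
    have h1 := hQT (hβ₁C ⟨z, Subgroup.mem_sup_right hz⟩ hz)
    set w := ((β₁ ⟨z, Subgroup.mem_sup_right hz⟩ : Y) : Ω) with hw
    have h2 : q⁻¹ * (((b' ⟨q, hq⟩ : Q) : Ω)) ∈ T :=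
      T.mul_mem (T.inv_mem (hQT hq)) (hQT (b' _).2)
    have h3 := T.mul_mem ((Subgroup.mem_normalizer_iff.1 (hTn (S.inv_mem hz.1)) _).1 h2) h1
    refine Set.mem_of_eq_of_mem ?_ h3
    simp only [Subgroup.coe_inclusion]
    group
  -- conjugation by `C` is carried by `β₁` to conjugation by `C T C_S(Q)`
  have hcj : ∀ c ∈ C, ∃ t ∈ T, ∃ l ∈ centralizerIn S Q,
      ∃ hN : l * t * c ∈ Subgroup.normalizer (Y : Set Ω),
      ∀ hcY : c ∈ Subgroup.normalizer (Y : Set Ω),
        β₁ * conjAut hcY * β₁⁻¹ = conjAut hN := by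
    intro c hcC
    have hcS := hCS hcC
    have hcQ := hCQ hcC
    have hcY := hNY c hcS hcQ
    have hcF : conjAut hcQ ∈ F.autGroup Q :=
      autInducedBy_le_autGroup F hQS (conjAut_mem_autInducedBy hcS hcQ)
    have hmem : b' * conjAut hcQ * b'⁻¹ * (conjAut hcQ)⁻¹ ∈ autInducedBy T Q := by
      refine autInducedBy_inf_autGroup_le hS hE.1 hQT hQn ⟨mul_mem (autInducedBy_mono hCS
        (hb'Sg _ (conjAut_mem_autInducedBy hcC hcQ))) (Subgroup.inv_mem _ (conjAut_mem_autInducedBy hcS hcQ)), ?_⟩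
      rw [show b' * conjAut hcQ * b'⁻¹ * (conjAut hcQ)⁻¹ =
        b' * (conjAut hcQ * b'⁻¹ * (conjAut hcQ)⁻¹) by group]
      exact mul_mem (pow_mem hbE _)
        (conj_mem_autGroup_of_invariant hEi hQT hcF (inv_mem (pow_mem hbE _)))
    obtain ⟨t, ht, hte⟩ := mem_autInducedBy_iff.1 hmem
    have htQ := mem_normalizer_of_aut hte
    have htS := hTS ht
    have htY := hNY t htS htQ
    set δ := β₁ * conjAut hcY * β₁⁻¹ * (conjAut hcY)⁻¹ * (conjAut htY)⁻¹ with hδ
    have hcF' := autInducedBy_le_autGroup F hYS (conjAut_mem_autInducedBy hcS hcY)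
    have htF' := autInducedBy_le_autGroup F hYS (conjAut_mem_autInducedBy htS htY)
    have hδF : δ ∈ F.autGroup Y := mul_mem (mul_mem (mul_mem (mul_mem hβ₁ hcF') (inv_mem hβ₁))
      (inv_mem hcF')) (inv_mem htF')
    -- modulo `T`
    have hmodT : (⟨δ, hδF⟩ : F.autGroup Y) ∈ modKernel F hT hYS := by
      have hn := modKernel_normal hT hYS
      have h1 : (⟨β₁, hβ₁⟩ : F.autGroup Y) ∈ modKernel F hT hYS := hgen
      have h2 : (⟨_, htF'⟩ : F.autGroup Y) ∈ modKernel F hT hYS := fun y => by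
        show (y : Ω)⁻¹ * (t * y * t⁻¹) ∈ T
        have h3 := (Subgroup.mem_normalizer_iff''.1 (hTn (hYS y.2)) t).1 ht
        have := T.mul_mem h3 (T.inv_mem ht)
        simpa [mul_assoc] using this
      have h4 := mul_mem (mul_mem h1 (hn.conj_mem _ (inv_mem h1) ⟨_, hcF'⟩)) (inv_mem h2)
      refine Set.mem_of_eq_of_mem (Subtype.ext ?_) h4
      show δ = β₁ * (conjAut hcY * β₁⁻¹ * (conjAut hcY)⁻¹) * (conjAut htY)⁻¹
      rw [hδ]
      group
    have hδfix : ∀ y : Y, (y : Ω) ∈ Q → δ y = y := by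
      intro y hy
      let i : Q →* Y := Subgroup.inclusion le_sup_left
      have hi1 : ∀ w, β₁ (i w) = i (b' w) := hβ₁Q
      have hi2 : ∀ w, β₁⁻¹ (i w) = i (b'⁻¹ w) := fun w => by
        conv_lhs => rw [← MulAut.apply_inv_self _ b' w, ← hi1]
        exact MulAut.inv_apply_self _ _ _
      have hi3 : ∀ w, (conjAut hcY)⁻¹ (i w) = i ((conjAut hcQ)⁻¹ w) := fun w => by
        conv_lhs => rw [← MulAut.apply_inv_self _ (conjAut hcQ) w,
          show i (conjAut hcQ ((conjAut hcQ)⁻¹ w)) = conjAut hcY (i ((conjAut hcQ)⁻¹ w)) from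
            Subtype.ext rfl]
        exact MulAut.inv_apply_self _ _ _
      have hi4 : ∀ w, (conjAut htY)⁻¹ (i w) = i ((conjAut htQ)⁻¹ w) := fun w => by
        conv_lhs => rw [← MulAut.apply_inv_self _ (conjAut htQ) w,
          show i (conjAut htQ ((conjAut htQ)⁻¹ w)) = conjAut htY (i ((conjAut htQ)⁻¹ w)) from
            Subtype.ext rfl]
        exact MulAut.inv_apply_self _ _ _
      have hi5 : ∀ w, conjAut hcY (i w) = i (conjAut hcQ w) := fun w => Subtype.ext rfl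
      have e : conjAut htQ = b' * conjAut hcQ * b'⁻¹ * (conjAut hcQ)⁻¹ :=
        MulEquiv.ext fun w => Subtype.ext (hte w).symm
      have hyi : y = i ⟨(y : Ω), hy⟩ := Subtype.ext rfl
      rw [hyi, hδ, MulAut.mul_apply, hi4, MulAut.mul_apply, hi3, MulAut.mul_apply, hi2,
        MulAut.mul_apply, hi5, hi1]
      refine congrArg i ?_
      show (b' * conjAut hcQ * b'⁻¹ * (conjAut hcQ)⁻¹) ((conjAut htQ)⁻¹ ⟨(y : Ω), hy⟩) = _
      rw [← e, MulAut.apply_inv_self]
    obtain ⟨l, hl, hle⟩ := mem_autInducedBy_iff.1 (hfixS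
      (show δ ∈ fixingTranslations F Y Q from ⟨hδF, hδfix, fun y =>
        hTY.le ⟨hmodT y, (y⁻¹ * δ y).2⟩⟩))
    have hlY := mem_normalizer_of_aut hle
    have hlC : l ∈ centralizerIn S Q := by
      refine mem_centralizerIn.2 ⟨hl, fun q hq => ?_⟩
      have h1 := hle ⟨q, Subgroup.mem_sup_left hq⟩
      rw [hδfix _ hq] at h1
      calc q * l = l * q * l⁻¹ * l := by rw [← h1]
        _ = l * q := by group
    refine ⟨t, ht, l, hlC, mul_mem (mul_mem hlY htY) hcY, fun hcY' => ?_⟩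
    have e : δ = conjAut hlY := MulEquiv.ext fun y => Subtype.ext (hle y)
    have e2 : β₁ * conjAut hcY' * β₁⁻¹ = δ * conjAut htY * conjAut hcY := by rw [hδ]; group
    rw [e2, e]
    refine MulEquiv.ext fun y => Subtype.ext ?_
    simp only [MulAut.mul_apply, coe_conjAut]
    group
  -- extend to `X = Y C`
  obtain ⟨hβh, hβr⟩ := hom_of_mem_autGroup hYS hβ₁
  have hext : Y ⊔ C ≤ extender S Y (Y.subtype.comp β₁.toMonoidHom) := by
    refine sup_le (le_extender hYS fun x => apply_mem hβh x) fun c hcC => ?_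
    obtain ⟨t, ht, l, hl, hN, hh⟩ := hcj c hcC
    have hcY := hNY c (hCS hcC) (hCQ hcC)
    refine mem_extender_iff.2 ⟨hCS hcC, hcY, l * t * c,
      S.mul_mem (S.mul_mem hl.1 (hTS ht)) (hCS hcC), fun y hy => ?_⟩
    have h1 := congrArg (fun g : MulAut Y => ((g (β₁ y) : Y) : Ω)) (hh hcY)
    simp only [MulAut.mul_apply, MulAut.inv_apply_self, coe_conjAut] at h1
    exact h1
  set X := Y ⊔ C with hX
  obtain ⟨ψ, hψ, hψe⟩ := exists_extension (isReceptive_of_fullyNormalized hS hF hYn) hβh hβr hext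
  have hXS : X ≤ S := sup_le hYS hCS
  have hψY : ∀ y : Y, ψ (Subgroup.inclusion le_sup_left y) = ((β₁ y : Y) : Ω) := fun y =>
    hψe y y.2 _
  have hψU : ∀ x : U, ψ (Subgroup.inclusion ((hUQ.trans le_sup_left).trans le_sup_left) x) =
      (((a ^ p ^ k) x : U) : Ω) := fun x => by
    refine (hψY (Subgroup.inclusion le_sup_left (Subgroup.inclusion hUQ x))).trans ?_
    rw [hβ₁Q]
    exact congrArg Subtype.val (hbupow _ x)
  have hψC : ∀ y : X, (y : Ω) ∈ C → ψ y ∈ C ∧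
      ∃ z ∈ T, ∃ w ∈ centralizerIn S Q, (y : Ω)⁻¹ * ψ y = z * w := by
    intro y hyC
    refine ⟨mem_centralizerIn.2 ⟨apply_mem hψ y, fun u hu => ?_⟩, ?_⟩
    · obtain ⟨x, hx⟩ := (a ^ p ^ k).surjective ⟨u, hu⟩
      have hu' : u = ψ (Subgroup.inclusion ((hUQ.trans le_sup_left).trans le_sup_left) x) :=
        ((hψU x).trans (congrArg Subtype.val hx)).symm
      rw [hu', ← map_mul, ← map_mul]
      exact congrArg ψ (Subtype.ext ((mem_centralizerIn.1 hyC).2 _ x.2))
    · obtain ⟨t, ht, l, hl, hN, hh⟩ := hcj _ hyC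
      have hcY := hNY _ (hCS hyC) (hCQ hyC)
      set m := l * t * (y : Ω) with hm
      have hz : m⁻¹ * ψ y ∈ centralizerIn S Q := by
        refine mem_centralizerIn.2 ⟨S.mul_mem (S.inv_mem (S.mul_mem (S.mul_mem hl.1 (hTS ht))
          (hCS hyC))) (apply_mem hψ y), fun q hq => ?_⟩
        obtain ⟨z, hz⟩ := β₁.surjective ⟨q, Subgroup.mem_sup_left hq⟩
        obtain rfl : ((β₁ z : Y) : Ω) = q := congrArg Subtype.val hz
        have h1 := congrArg (fun g : MulAut Y => ((g (β₁ z) : Y) : Ω)) (hh hcY)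
        simp only [MulAut.mul_apply, MulAut.inv_apply_self, coe_conjAut] at h1
        have h2 : ψ y * ((β₁ z : Y) : Ω) * (ψ y)⁻¹ = ((β₁ (conjAut hcY z) : Y) : Ω) := by
          rw [← hψY, ← hψY, ← map_inv, ← map_mul, ← map_mul]
          exact congrArg ψ (Subtype.ext rfl)
        rw [h1] at h2
        calc ((β₁ z : Y) : Ω) * (m⁻¹ * ψ y) = m⁻¹ * (m * (β₁ z : Y) * m⁻¹) * ψ y := by group
          _ = m⁻¹ * (ψ y * (β₁ z : Y) * (ψ y)⁻¹) * ψ y := by rw [h2]
          _ = m⁻¹ * ψ y * (β₁ z : Y) := by group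
      set z₀ := m⁻¹ * ψ y with hz₀
      have hyS := hCS hyC
      have hl' : (y : Ω)⁻¹ * l * (y : Ω) ∈ centralizerIn S Q :=
        (Subgroup.mem_normalizer_iff''.1
          (NormalExtensions.mem_normalizer_centralizerIn hyS (hCQ hyC)) l).1 hl
      set l' := (y : Ω)⁻¹ * l * (y : Ω) with hl'd
      have ht' : (y : Ω)⁻¹ * t * (y : Ω) ∈ T := (Subgroup.mem_normalizer_iff''.1 (hTn hyS) t).1 ht
      have ht'' : l' * ((y : Ω)⁻¹ * t * (y : Ω)) * l'⁻¹ ∈ T :=
        (Subgroup.mem_normalizer_iff.1 (hTn hl'.1) _).1 ht'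
      refine ⟨_, ht'', l' * z₀, mul_mem hl' hz, ?_⟩
      rw [hz₀, hm, hl'd]
      group
  have hψX : ∀ x, ψ x ∈ X := by
    refine forall_sup_mem _ (fun y => Subgroup.mem_sup_left ?_) fun c => Subgroup.mem_sup_right ?_
    · rw [hψY]
      exact (β₁ y).2
    · exact (hψC _ c.2).1
  set Φ := toAut hψ (range_eq_of_le hψ hXS hψX le_rfl) with hΦ
  have hΦv : ∀ x, ((Φ x : X) : Ω) = ψ x := fun x => rfl
  have hΦF : Φ ∈ F.autGroup X := toAut_mem _ _
  have hfinX := finite_of_le (Ω := Ω) hXS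
  have := finite_mulAut (Ω := Ω) hXS
  -- work modulo `T`
  have hTnS : (T.subgroupOf S).Normal := by
    refine ⟨fun x hx g => ?_⟩
    exact (Subgroup.mem_normalizer_iff.1 (hTn g.2) x).1 hx
  let π : X →* S ⧸ T.subgroupOf S := (QuotientGroup.mk' _).comp (Subgroup.inclusion hXS)
  have hπ : ∀ x y : X, π x = π y ↔ (x : Ω)⁻¹ * y ∈ T := fun x y => QuotientGroup.eq
  have hπT : ∀ x : X, (x : Ω) ∈ T → π (Φ x) = π x := fun x hx => ((hπ _ _).2
    (T.mul_mem (T.inv_mem hx) (apply_mem_of_stronglyClosed hT hXS hΦF hx))).symm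
  have hπY : ∀ x : X, (x : Ω) ∈ centralizerIn S Q → π (Φ x) = π x := fun x hx => ((hπ _ _).2 (by
    have hxY : (x : Ω) ∈ Y := Subgroup.mem_sup_right hx
    rw [hΦv, show x = Subgroup.inclusion le_sup_left ⟨(x : Ω), hxY⟩ from Subtype.ext rfl, hψY]
    exact hgen ⟨(x : Ω), hxY⟩)).symm
  have hfix : ∀ z : X, π (Φ z) = π z → ∀ i : ℕ, π ((Φ ^ i) z) = π z := by
    intro z hz i
    induction i generalizing z with
    | zero => rfl
    | succ i ih =>
      have hd : ((z⁻¹ * Φ z : X) : Ω) ∈ T := (hπ _ _).1 hz.symm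
      have hd0 : π (z⁻¹ * Φ z) = 1 := by rw [map_mul, map_inv, hz, inv_mul_cancel]
      rw [pow_succ, MulAut.mul_apply, show Φ z = z * (z⁻¹ * Φ z) from (mul_inv_cancel_left _ _).symm,
        map_mul, map_mul, ih z hz, ih _ (hπT _ hd), hd0, mul_one]
  set m := orderOf Φ with hm
  obtain ⟨j, m', hm', hjm⟩ := Nat.exists_eq_pow_mul_and_not_dvd (orderOf_pos Φ).ne' p
    (Fact.out : p.Prime).one_lt.ne'
  have hΨC : ∀ y : X, (y : Ω) ∈ C → π ((Φ ^ p ^ j) y) = π y := by
    intro y hy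
    obtain ⟨-, z, hz, w, hw, hzw⟩ := hψC y hy
    set u := y⁻¹ * Φ y with hu
    have huv : (u : Ω) = z * w := hzw
    have huF : π (Φ u) = π u := by
      have hwX : w ∈ X := Subgroup.mem_sup_left (Subgroup.mem_sup_right hw)
      have hzX : z ∈ X := by
        have := X.mul_mem u.2 (X.inv_mem hwX)
        rwa [huv, mul_inv_cancel_right] at this
      have hue : u = ⟨z, hzX⟩ * ⟨w, hwX⟩ := Subtype.ext huv
      rw [hue, map_mul, map_mul, map_mul, hπT _ hz, hπY _ hw]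
    have hiter : ∀ i : ℕ, π ((Φ ^ i) y) = π y * π u ^ i := by
      intro i
      induction i with
      | zero => simp
      | succ i ih =>
        rw [pow_succ, MulAut.mul_apply, show Φ y = y * u from (mul_inv_cancel_left _ _).symm,
          map_mul, map_mul, ih, hfix u huF, mul_assoc, ← pow_succ]
    have hum : π u ^ m = 1 := by
      have h := hiter m
      rw [hm, pow_orderOf_eq_one, MulAut.one_apply] at h
      exact left_eq_mul.1 h
    obtain ⟨i, hi⟩ := hS ⟨(u : Ω), hXS u.2⟩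
    have hui : π u ^ p ^ i = 1 := by
      rw [← map_pow]
      exact ((hπ 1 _).2 (by
        rw [Subgroup.coe_one, inv_one, one_mul, Subgroup.coe_pow,
          show (u : Ω) ^ p ^ i = 1 from congrArg Subtype.val hi]
        exact T.one_mem)).symm.trans (map_one π)
    have huj : π u ^ p ^ j = 1 := by
      refine orderOf_dvd_iff_pow_eq_one.1 ?_
      have h1 : orderOf (π u) ∣ p ^ j * m' := hjm ▸ orderOf_dvd_of_pow_eq_one hum
      refine Nat.Coprime.dvd_of_dvd_mul_right ?_ h1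
      exact Nat.Coprime.coprime_dvd_left (orderOf_dvd_of_pow_eq_one hui)
        ((((Fact.out : p.Prime).coprime_iff_not_dvd.2 hm').pow_left i))
    rw [hiter, huj, mul_one]
  obtain ⟨s, hs'⟩ :=
    exists_pow_eq_self_of_coprime (x := a) (hc.symm.pow_left (k + j) : (p ^ (k + j)).Coprime _)
  set Ψ := (Φ ^ p ^ j) ^ s with hΨ
  have hΨU : ∀ (i : ℕ) (x : U),
      (Φ ^ i) (Subgroup.inclusion ((hUQ.trans le_sup_left).trans le_sup_left) x) =
        Subgroup.inclusion ((hUQ.trans le_sup_left).trans le_sup_left)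
          (((a ^ p ^ k) ^ i) x) := by
    intro i
    induction i with
    | zero => exact fun x => rfl
    | succ i ih =>
      intro x
      rw [pow_succ, pow_succ, MulAut.mul_apply, MulAut.mul_apply, ← ih]
      exact congrArg _ (Subtype.ext (hψU x))
  have hΨmod : ∀ y : X, (y : Ω) ∈ C → π (Ψ y) = π y := by
    intro y hy
    rw [hΨ]
    have hC' : ∀ i : ℕ, ∀ y : X, (y : Ω) ∈ C → (((Φ ^ i) y : X) : Ω) ∈ C := by
      intro i
      induction i with
      | zero => exact fun y hy => hy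
      | succ i ih =>
        intro y hy
        rw [pow_succ, MulAut.mul_apply]
        exact ih _ (hψC y hy).1
    have key : ∀ i : ℕ, ∀ y : X, (y : Ω) ∈ C → π (((Φ ^ p ^ j) ^ i) y) = π y := by
      intro i
      induction i with
      | zero => exact fun y _ => rfl
      | succ i ih =>
        intro y hy
        rw [pow_succ, MulAut.mul_apply, ih _ (hC' _ y hy), hΨC y hy]
    exact key s y hy
  have hQX : Q ⊔ C ≤ X := sup_le_sup_right le_sup_left C
  refine ⟨(X.subtype.comp Ψ.toMonoidHom).comp (Subgroup.inclusion hQX),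
    restrict_mem ((mem_autGroup_iff hXS).1 (pow_mem (pow_mem hΦF _) _)) hQX,
    fun y => sup_le (sup_le le_sup_left ((centralizerIn_anti hUQ).trans le_sup_right)) le_sup_right
      (Ψ (Subgroup.inclusion hQX y)).2, fun x => ?_, fun y hy => ?_⟩
  · show ((Ψ (Subgroup.inclusion ((hUQ.trans le_sup_left).trans le_sup_left) x) : X) : Ω) = _
    rw [hΨ, ← pow_mul, hΨU, ← pow_mul, ← mul_assoc, ← pow_add, pow_mul, hs']
    rfl
  · exact (hπ _ _).1 (hΨmod (Subgroup.inclusion hQX y) hy).symm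

/-- An automorphism in `E` of order prime to `p` of a fully normalized `U` normalizing `Wt ≤ Aut_T(U)`
extends to the elements inducing `Wt`, trivially on `C_S(U)` modulo `T`. -/
theorem exists_ext_mod (hS : IsPGroup p S) (hE : E.IsNormalIn F p) {U : Subgroup Ω} (hUT : U ≤ T)
    (hUn : F.IsFullyNormalized U) {Wt : Subgroup (MulAut U)} (hW : Wt ≤ autInducedBy T U)
    (hInn : Inn U ≤ Wt) {a : MulAut U} (ha : a ∈ E.autGroup U) (hc : (orderOf a).Coprime p)
    (han : ∀ w ∈ Wt, a * w * a⁻¹ ∈ Wt) :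
    ∃ γ ∈ F.Hom (Criterion.inducing T U Wt ⊔ centralizerIn S U),
      (∀ (x : U) (hx : (x : Ω) ∈ Criterion.inducing T U Wt ⊔ centralizerIn S U),
        γ ⟨x, hx⟩ = ((a x : U) : Ω)) ∧
      ∀ y : ↥(Criterion.inducing T U Wt ⊔ centralizerIn S U),
        (y : Ω) ∈ centralizerIn S U → (y : Ω)⁻¹ * γ y ∈ T := by
  obtain ⟨⟨hEs, hF, hEi⟩, -⟩ := id hE
  have hT : F.StronglyClosed T := hEi.2.1
  have hTS := hT.1
  have hTn := le_normalizer_of_stronglyClosed hT
  have hUS := hUn.1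
  have := finite_of_le (Ω := Ω) hTS
  set Q := Criterion.inducing T U Wt with hQdef
  set C := centralizerIn S U with hC
  have hUQ : U ≤ Q := fun u hu =>
    Criterion.mem_inducing.2 ⟨hUT hu, Subgroup.le_normalizer hu, hInn ⟨⟨u, hu⟩, MulEquiv.ext fun z => Subtype.ext rfl⟩⟩
  have hQT : Q ≤ T := fun x hx => (Criterion.mem_inducing.1 hx).1
  have hQS : Q ≤ S := hQT.trans hTS
  have hQN : Q ≤ Subgroup.normalizer (U : Set Ω) := fun x hx => (Criterion.mem_inducing.1 hx).2.1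
  have hCQ : C ≤ normalizerIn S Q := fun c hc' => by
    refine ⟨hc'.1, ?_⟩
    have := finite_of_le (Ω := Ω) hQS
    refine mem_normalizer_of_forall fun q hq => ?_
    obtain ⟨hqT, hqN, hqW⟩ := Criterion.mem_inducing.1 hq
    have hcU : c ∈ Subgroup.normalizer (U : Set Ω) := Subgroup.centralizer_le_normalizer _ hc'.2
    refine Criterion.mem_inducing.2 ⟨(Subgroup.mem_normalizer_iff.1 (hTn hc'.1) q).1 hqT,
      mul_mem (mul_mem hcU hqN) (inv_mem hcU), ?_⟩
    convert hqW using 1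
    refine MulEquiv.ext fun u => Subtype.ext ?_
    show c * q * c⁻¹ * (u : Ω) * (c * q * c⁻¹)⁻¹ = q * u * q⁻¹
    have h2 : c⁻¹ * (u : Ω) * c = u := by rw [mul_assoc, hc'.2 _ u.2, inv_mul_cancel_left]
    have h3 : q * (u : Ω) * q⁻¹ ∈ U := (Subgroup.mem_normalizer_iff.1 hqN u).1 u.2
    calc c * q * c⁻¹ * (u : Ω) * (c * q * c⁻¹)⁻¹
        = c * (q * (c⁻¹ * u * c) * q⁻¹) * c⁻¹ := by group
      _ = c * (q * u * q⁻¹) * c⁻¹ := by rw [h2]
      _ = q * u * q⁻¹ := by rw [← hc'.2 _ h3, mul_inv_cancel_right]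
  have hEn := NormalExtensions.isFullyNormalized_sub hS hF hEi.1 hT hUT hUn
  have hQc : E.IsCentric Q := by
    refine isCentric_of_le (Fusion.isCentric_sup_centralizerIn
      (isFullyCentralized_of_fullyNormalized (hS.to_le hTS) hEs hEn)) (sup_le hUQ fun x hx => ?_) hQT
    refine Criterion.mem_inducing.2 ⟨hx.1, Subgroup.centralizer_le_normalizer _ hx.2, ?_⟩
    convert one_mem Wt using 1
    refine MulEquiv.ext fun u => Subtype.ext ?_
    show x * (u : Ω) * x⁻¹ = u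
    rw [← hx.2 _ u.2, mul_inv_cancel_right]
  -- extend to `Q` in `E`
  obtain ⟨hah, har⟩ := hom_of_mem_autGroup hUT ha
  have hext : Q ≤ extender T U (U.subtype.comp a.toMonoidHom) := by
    intro q hq
    obtain ⟨hqT, hqN, hqW⟩ := Criterion.mem_inducing.1 hq
    obtain ⟨t, ht, he⟩ := mem_autInducedBy_iff.1 (hW (han _ hqW))
    refine mem_extender_iff.2 ⟨hqT, hqN, t, ht, fun x hx => ?_⟩
    have h1 := he (a x)
    rw [MulAut.mul_apply, MulAut.mul_apply, MulAut.inv_apply_self] at h1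
    exact h1
  obtain ⟨ψ, hψ, hψe⟩ :=
    exists_extension (isReceptive_of_fullyNormalized (hS.to_le hTS) hEs hEn) hah har hext
  have hψQ : ∀ q : Q, ψ q ∈ Q := by
    intro q
    obtain ⟨hqT, hqN, hqW⟩ := Criterion.mem_inducing.1 q.2
    have hz : ∀ x : U, ((a (conjAut hqN x) : U) : Ω) = ψ q * (a x : U) * (ψ q)⁻¹ := fun x => by
      show U.subtype.comp a.toMonoidHom ⟨_, _⟩ =
        _ * U.subtype.comp a.toMonoidHom ⟨(x : Ω), x.2⟩ * _
      rw [← hψe (x : Ω) x.2 (hUQ x.2)]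
      refine (hψe _ (conjAut hqN x).2 (hUQ (conjAut hqN x).2)).symm.trans ?_
      rw [← map_inv, ← map_mul, ← map_mul]
      exact congrArg ψ (Subtype.ext rfl)
    have hmem : ψ q ∈ Subgroup.normalizer (U : Set Ω) := by
      refine mem_normalizer_of_aut (α := a * conjAut hqN * a⁻¹) fun x => ?_
      obtain ⟨y, rfl⟩ := a.surjective x
      rw [MulAut.mul_apply, MulAut.mul_apply, MulAut.inv_apply_self, hz]
    refine Criterion.mem_inducing.2 ⟨apply_mem hψ q, hmem, ?_⟩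
    convert han _ hqW using 1
    refine MulEquiv.ext fun x => ?_
    obtain ⟨y, rfl⟩ := a.surjective x
    rw [MulAut.mul_apply, MulAut.mul_apply, MulAut.inv_apply_self]
    exact Subtype.ext (hz y).symm
  have := finite_of_le (Ω := Ω) hQS
  set a₁ := toAut hψ (range_eq_of_le hψ hQT hψQ le_rfl) with ha₁
  have ha₁E : a₁ ∈ E.autGroup Q := toAut_mem _ _
  -- move
  obtain ⟨ω, hω, hQ'n, hY'n⟩ := exists_move hS hF hQS
  have hQle : Q ≤ normalizerIn S Q := le_normalizerIn hQS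
  have hUle : U ≤ normalizerIn S Q := hUQ.trans hQle
  set Q' := (Q.subgroupOf (normalizerIn S Q)).map ω with hQ'
  set U' := (U.subgroupOf (normalizerIn S Q)).map ω with hU'
  have hωQ := restrict_mem hω hQle
  have hωQr : (ω.comp (Subgroup.inclusion hQle)).range = Q' := by
    rw [MonoidHom.range_comp, Subgroup.inclusion_range]
  have hωU := restrict_mem hω hUle
  have hωUr : (ω.comp (Subgroup.inclusion hUle)).range = U' := by
    rw [MonoidHom.range_comp, Subgroup.inclusion_range]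
  set eQ := homEquiv hωQ hωQr with heQ
  set eU := homEquiv hωU hωUr with heU
  have hU'Q' : U' ≤ Q' := Subgroup.map_mono fun x hx => hUQ hx
  have hconjU : F.IsConj U U' := ⟨_, hωU, hωUr⟩
  have hUC := isFullyCentralized_of_fullyNormalized hS hF hUn
  set C' := centralizerIn S U' with hC'
  have hCmap : ((C.subgroupOf (normalizerIn S Q)).map ω) = C' := by
    have := finite_of_le (Ω := Ω) (centralizerIn_le S U')
    refine Subgroup.eq_of_le_of_card_ge ?_ ?_
    · rintro _ ⟨c, hc', rfl⟩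
      refine mem_centralizerIn.2 ⟨apply_mem hω c, ?_⟩
      rintro _ ⟨u, hu, rfl⟩
      rw [← map_mul, ← map_mul]
      exact congrArg ω (Subtype.ext ((mem_centralizerIn.1 hc').2 _ hu))
    · rw [Subgroup.card_map_of_injective (F.injective_of_mem hω),
        Nat.card_congr (Subgroup.subgroupOfEquivOfLe hCQ).toEquiv]
      exact hUC.2 _ hconjU
  have hU'C : F.IsFullyCentralized U' := by
    refine ⟨(isConj_le hconjU).2, fun R hR => (hUC.2 R (isConj_trans hconjU hR)).trans_eq ?_⟩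
    rw [show centralizerIn S U' = (C.subgroupOf (normalizerIn S Q)).map ω from hCmap.symm,
      Subgroup.card_map_of_injective (F.injective_of_mem hω)]
    exact (Nat.card_congr (Subgroup.subgroupOfEquivOfLe hCQ).toEquiv).symm
  have hC'Q' : C' ≤ Subgroup.normalizer (Q' : Set Ω) := by
    rw [← hCmap]
    rintro _ ⟨c, -, rfl⟩
    have := finite_of_le (Ω := Ω) hQ'n.1
    refine mem_normalizer_of_forall fun z hz => ?_
    obtain ⟨q, hq, rfl⟩ := hz
    refine ⟨c * q * c⁻¹, (Subgroup.mem_normalizer_iff.1 c.2.2 _).1 hq, ?_⟩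
    rw [map_mul, map_mul, map_inv]
  have hQ'c : E.IsCentric Q' := NormalExtensions.isCentric_map hE.1 hQc hωQ hωQr
  obtain ⟨γ', hγ', hγ'X, hγ'U, hγ'C⟩ := exists_ext_core hS hE hU'Q' hU'C hC'Q' hQ'c hQ'n hY'n
    (NormalExtensions.congr_mem_E hEi hQT hωQ hωQr ha₁E) (a := MulAut.congr eU a) (fun z => by
      obtain ⟨x, rfl⟩ := eU.surjective z
      rw [show Subgroup.inclusion hU'Q' (eU x) = eQ (Subgroup.inclusion hUQ x) from Subtype.ext rfl,
        congr_apply, congr_apply, coe_homEquiv, coe_homEquiv]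
      exact congrArg ω (Subtype.ext (hψe x x.2 (hUQ x.2))))
    (by rwa [MulEquiv.orderOf_eq])
  -- pull back
  have hM : Q ⊔ C ≤ normalizerIn S Q := sup_le hQle hCQ
  have hωM := restrict_mem hω hM
  have hωMr : (ω.comp (Subgroup.inclusion hM)).range = Q' ⊔ C' := by
    rw [MonoidHom.range_comp, Subgroup.inclusion_range, Subgroup.subgroupOf_sup hQle hCQ,
      Subgroup.map_sup, hCmap]
  obtain ⟨η, hη, -, hηi, -⟩ := exists_inverse hωM hωMr
  have hm₁ : ∀ y : ↥(Q ⊔ C), ω (Subgroup.inclusion hM y) ∈ Q' ⊔ C' := fun y => hωMr.le ⟨y, rfl⟩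
  have h₁ := F.comp_mem hωM hγ' hm₁
  refine ⟨_, F.comp_mem h₁ hη fun y => hγ'X _, fun x hx => ?_, fun y hy => ?_⟩
  · show η ⟨γ' ⟨ω (Subgroup.inclusion hM ⟨x, hx⟩), _⟩, _⟩ = _
    refine Eq.trans (congrArg η (Subtype.ext ?_))
      (hηi (Subgroup.inclusion (hUQ.trans le_sup_left) (a x)) (hm₁ _))
    refine Eq.trans (congrArg γ' (Subtype.ext ?_ : _ =
      Subgroup.inclusion (hU'Q'.trans le_sup_left) (eU x))) ((hγ'U (eU x)).trans ?_)
    · rfl
    · rw [congr_apply]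
      rfl
  · show (y : Ω)⁻¹ * η ⟨γ' ⟨ω (Subgroup.inclusion hM y), _⟩, _⟩ ∈ T
    have hy' : ω (Subgroup.inclusion hM y) ∈ C' := hCmap.le ⟨_, hy, rfl⟩
    have h2 := hγ'C ⟨_, hm₁ y⟩ hy'
    refine Set.mem_of_eq_of_mem ?_
      (apply_mem_closed hT hη ((⟨_, hm₁ y⟩ : ↥(Q' ⊔ C'))⁻¹ * ⟨_, hγ'X ⟨_, hm₁ y⟩⟩) h2)
    rw [map_mul, map_inv]
    exact congrArg (fun z => z⁻¹ * η ⟨γ' ⟨_, hm₁ y⟩, hγ'X ⟨_, hm₁ y⟩⟩) (hηi y (hm₁ y)).symm

/-- **The kernel bound.** -/
theorem kerBound (c : Ctx F E D p) : KerBound F E D p := by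
  intro U hU hUn
  set R := T ⊓ T' with hR
  have hUS := hUn.1
  have := finite_mulAut (Ω := Ω) hUS
  set K := kAut E D U with hK
  have hKF := kAut_le_autGroup c hU
  obtain ⟨-, Y, hY⟩ := isFullyAutomized_of_fullyNormalized c.hS c.hF hUn
  let K' : Subgroup (F.autGroup U) := K.subgroupOf (F.autGroup U)
  have hK'n : K'.Normal := ⟨fun k hk a => kAut_conj c hU a.2 hk⟩
  obtain ⟨W₀, hW₀⟩ := Cfsg.Agent.SylowCount.exists_sylow_inf Y K'
  let e : K' ≃* K := Subgroup.subgroupOfEquivOfLe hKF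
  have hWp : IsPGroup p ((autInducedBy S U).subgroupOf K) :=
    (isPGroup_autInducedBy c.hS U).comap_subtype
  obtain ⟨W, hW⟩ := hWp.exists_le_sylow
  have hWeq : (W : Subgroup K) = (autInducedBy S U).subgroupOf K := by
    refine le_antisymm ?_ hW
    have h1 : (W₀ : Subgroup K') ≤ (W : Subgroup K).comap e.toMonoidHom := by
      intro w hw
      rw [hW₀, Subgroup.mem_subgroupOf, hY] at hw
      exact hW hw
    have h2 := W₀.is_maximal' (W.isPGroup'.comap_of_injective e.toMonoidHom e.injective) h1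
    intro w hw
    have h3 : e.symm w ∈ (W : Subgroup K).comap e.toMonoidHom := by
      show e (e.symm w) ∈ (W : Subgroup K)
      rwa [e.apply_symm_apply]
    rw [h2, hW₀, Subgroup.mem_subgroupOf, hY] at h3
    exact h3
  -- the bound on the hyperfocal subgroup
  have hhyp : (groupFusionSystem (W : Subgroup K)).hyperfocalSubgroup p ≤
      (autInducedBy R U).subgroupOf K := by
    refine (Subgroup.closure_le _).2 ?_
    rintro _ ⟨P, α, x, hP, hα, rfl⟩
    let G : Subgroup ((groupFusionSystem (W : Subgroup K)).autGroup P) :=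
      { carrier := {b | ∀ x : P, (x : K)⁻¹ * (((b : MulAut P) x : P) : K) ∈
          (autInducedBy R U).subgroupOf K}
        one_mem' := fun x => by simp
        mul_mem' := fun {b b'} hb hb' x => by
          have h := mul_mem (hb' x) (hb ((b' : MulAut P) x))
          rwa [mul_assoc, mul_inv_cancel_left] at h
        inv_mem' := fun {b} hb x => by
          have h := ((autInducedBy R U).subgroupOf K).inv_mem (hb ((b : MulAut P)⁻¹ x))
          rwa [MulAut.apply_inv_self, mul_inv_rev, inv_inv] at h }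
    suffices hG : Cfsg.pResidual p _ ≤ G from hG hα x
    have heq : (groupFusionSystem (W : Subgroup K)).autGroup P = P.normalizerMonoidHom.range := by
      rw [group_autGroup hP, autInducedBy_eq_map, Subgroup.top_subgroupOf,
        ← MonoidHom.range_eq_map]
    let f : Subgroup.normalizer (P : Set K) →* (groupFusionSystem (W : Subgroup K)).autGroup P :=
      P.normalizerMonoidHom.codRestrict _ fun g => heq ▸ ⟨g, rfl⟩
    have hf : Function.Surjective f := by
      rintro ⟨β, hβ⟩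
      rw [heq] at hβ
      obtain ⟨g, hg⟩ := hβ
      exact ⟨g, Subtype.ext hg⟩
    rw [← Transfer.map_pResidual_of_surjective f hf p, Subgroup.map_le_iff_le_comap]
    refine (Subgroup.closure_le _).2 fun g hg => ?_
    intro x
    show (x : K)⁻¹ * ((g : K) * x * (g : K)⁻¹) ∈ (autInducedBy R U).subgroupOf K
    set a : MulAut U := ((g : K) : MulAut U) with ha
    have hac : (orderOf a).Coprime p := by
      rw [ha, Subgroup.orderOf_coe, Subgroup.orderOf_coe]
      exact hg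
    have haK : a ∈ K := (g : K).2
    have haF : a ∈ F.autGroup U := hKF haK
    have hWin : ∀ w : K, w ∈ (W : Subgroup K) →
        (w : MulAut U) ∈ autInducedBy T U ∧ (w : MulAut U) ∈ autInducedBy T' U := by
      intro w hw
      rw [hWeq, Subgroup.mem_subgroupOf] at hw
      exact ⟨autInducedBy_inf_autGroup_le c.hS c.hE.1 (hU.trans inf_le_left) hUn ⟨hw, w.2.1⟩,
        autInducedBy_inf_autGroup_le c.hS c.hD.1 (hU.trans inf_le_right) hUn ⟨hw, w.2.2⟩⟩
    set Wt := P.map K.subtype ⊔ Inn U with hWt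
    have hWtT : Wt ≤ autInducedBy T U := sup_le (by rintro _ ⟨w, hw, rfl⟩; exact (hWin w (hP hw)).1)
      (inn_le_autInducedBy (hU.trans inf_le_left))
    have han : ∀ w ∈ Wt, a * w * a⁻¹ ∈ Wt := by
      intro w hw
      suffices Wt ≤ Wt.comap (MulAut.conj a).toMonoidHom from this hw
      refine sup_le ?_ fun i hi => Subgroup.mem_sup_right ?_
      · rintro _ ⟨w, hw, rfl⟩
        exact Subgroup.mem_sup_left ⟨_, (Subgroup.mem_normalizer_iff.1 g.2 w).1 hw, rfl⟩
      · exact (inn_normal U).conj_mem _ hi a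
    set M := Criterion.inducing T U Wt ⊔ centralizerIn S U with hMdef
    obtain ⟨γ, hγ, hγU, hγC⟩ := exists_ext_mod c.hS c.hE (hU.trans inf_le_left) hUn hWtT
      le_sup_right haK.1 hac han
    obtain ⟨t, ht, hte⟩ := mem_autInducedBy_iff.1 (hWin _ (hP x.2)).1
    obtain ⟨t', ht', hte'⟩ := mem_autInducedBy_iff.1 (hWin _ (hP x.2)).2
    have htM : t ∈ M := Subgroup.mem_sup_left (Criterion.mem_inducing.2
      ⟨ht, mem_normalizer_of_aut hte, by
        rw [show conjAut (mem_normalizer_of_aut hte) = ((x : K) : MulAut U) from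
          MulEquiv.ext fun z => Subtype.ext (hte z).symm]
        exact Subgroup.mem_sup_left ⟨(x : K), x.2, rfl⟩⟩)
    have htS := c.closedE.1 ht
    have ht'S := c.closedD.1 ht'
    set d := t⁻¹ * t' with hd
    have hdC : d ∈ centralizerIn S U := by
      refine mem_centralizerIn.2 ⟨S.mul_mem (S.inv_mem htS) ht'S, fun z hz => ?_⟩
      have h1 := (hte ⟨z, hz⟩).symm.trans (hte' ⟨z, hz⟩)
      calc z * (t⁻¹ * t') = t⁻¹ * (t * z * t⁻¹) * t' := by group
        _ = t⁻¹ * (t' * z * t'⁻¹) * t' := by rw [h1]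
        _ = t⁻¹ * t' * z := by group
    have hdM : d ∈ M := Subgroup.mem_sup_right hdC
    have ht'M : t' ∈ M := by
      rw [show t' = t * d by rw [hd, mul_inv_cancel_left]]
      exact M.mul_mem htM hdM
    set s := γ ⟨t, htM⟩ with hs
    set s' := γ ⟨t', ht'M⟩ with hs'
    set z := d⁻¹ * γ ⟨d, hdM⟩ with hz
    have hzT : z ∈ T := hγC ⟨d, hdM⟩ hdC
    have hsT : s ∈ T := apply_mem_closed c.closedE hγ _ ht
    have hs'T : s' ∈ T' := apply_mem_closed c.closedD hγ _ ht'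
    have hs'e : s' = s * (d * z) := by
      rw [hs', hs, hz, mul_inv_cancel_left, ← map_mul]
      exact congrArg γ (Subtype.ext (by show t' = t * d; rw [hd, mul_inv_cancel_left]))
    have hconj : ∀ u : U, (((a * ((x : K) : MulAut U) * a⁻¹) u : U) : Ω) = s' * u * s'⁻¹ := by
      intro u
      obtain ⟨v, rfl⟩ := a.surjective u
      rw [MulAut.mul_apply, MulAut.mul_apply, MulAut.inv_apply_self]
      have hvM : ∀ w : U, (w : Ω) ∈ M := fun w => Subgroup.mem_sup_left (Criterion.mem_inducing.2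
        ⟨hU.trans inf_le_left w.2, Subgroup.le_normalizer w.2, Subgroup.mem_sup_right ⟨w, MulEquiv.ext fun z => Subtype.ext rfl⟩⟩)
      rw [← hγU v (hvM v), ← hγU _ (hvM _), hs', ← map_inv, ← map_mul, ← map_mul]
      exact congrArg γ (Subtype.ext (hte' v))
    set r := t' * s'⁻¹ with hr
    have hrR : r ∈ R := by
      refine ⟨?_, T'.mul_mem ht' (T'.inv_mem hs'T)⟩
      rw [hr, hs'e, show t' = t * d by rw [hd, mul_inv_cancel_left],
        show t * d * (s * (d * z))⁻¹ = t * (d * z⁻¹ * d⁻¹) * s⁻¹ by group]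
      exact T.mul_mem (T.mul_mem ht ((Subgroup.mem_normalizer_iff.1
        (le_normalizer_of_stronglyClosed c.closedE hdC.1) _).1 (T.inv_mem hzT))) (T.inv_mem hsT)
    -- the inverse of `x⁻¹ (g x g⁻¹)` is induced by `r`
    have hy : ((x : K) : MulAut U) * (a * ((x : K) : MulAut U) * a⁻¹)⁻¹ ∈ autInducedBy R U := by
      refine mem_autInducedBy_iff.2 ⟨r, hrR, fun u => ?_⟩
      obtain ⟨v, rfl⟩ := (a * ((x : K) : MulAut U) * a⁻¹).surjective u
      rw [MulAut.mul_apply, MulAut.inv_apply_self, hte', hconj, hr]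
      group
    rw [Subgroup.mem_subgroupOf]
    show ((x : K) : MulAut U)⁻¹ * (a * ((x : K) : MulAut U) * a⁻¹) ∈ autInducedBy R U
    have hxN : t ∈ Subgroup.normalizer (U : Set Ω) := mem_normalizer_of_aut hte
    have hxe : conjAut hxN = ((x : K) : MulAut U) :=
      MulEquiv.ext fun w => Subtype.ext (hte w).symm
    have h3 := conj_mem_autInducedBy (R := R)
      (le_normalizer_of_stronglyClosed c.closed (S.inv_mem htS))
      (Subgroup.inv_mem _ hxN) (Subgroup.inv_mem _ hy)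
    have hxe' : conjAut (Subgroup.inv_mem _ hxN) = ((x : K) : MulAut U)⁻¹ := by
      rw [← hxe]
      exact map_inv U.normalizerMonoidHom ⟨t, hxN⟩
    rw [hxe'] at h3
    convert h3 using 1
    group
  rintro y ⟨⟨w, hw, rfl⟩, hyS⟩
  have hwW : w ∈ (W : Subgroup K) ⊓ Cfsg.pResidual p K := ⟨by rw [hWeq]; exact hyS, hw⟩
  rw [← hyperfocal_group W] at hwW
  exact hhyp hwW

end Cfsg.Agent.Fusion.Meet
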