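import Cfsg.Agent.Lib.Fusion.Meet.Aut
import Cfsg.Agent.Lib.Fusion.Invariant
import Cfsg.Agent.Lib.Fusion.Nilpotent

/-!
The system generated by the groups `meetAut` is invariant.
-/

set_option autoImplicit false
set_option linter.unusedSectionVars false

namespace Cfsg.Agent.Fusion.Meet

open Cfsg Cfsg.FusionSystem Cfsg.Agent.Fusion

universe u

variable {Ω : Type u} [Group Ω] {S T T' : Subgroup Ω} {F : FusionSystem S} {E : FusionSystem T}
  {D : FusionSystem T'} {p : ℕ}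
variable [Finite S] [Fact p.Prime]

/-- The transport along an automorphism of `R` of the automorphisms induced by `M`. -/
theorem congr_mem_autInducedBy_iff {R U M : Subgroup Ω} (hRS : R ≤ S) (hU : U ≤ R) (hM : M ≤ R)
    {α : MulAut R} (hα : α ∈ F.autGroup R) {φ : U →* Ω} (hφ : φ ∈ F.Hom U)
    (hr : φ.range = autImage α U) (hv : ∀ x : U, φ x = ((α ⟨x, hU x.2⟩ : R) : Ω))
    {a : MulAut U} :
    MulAut.congr (homEquiv hφ hr) a ∈ autInducedBy (autImage α M) (autImage α U) ↔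
      a ∈ autInducedBy M U := by
  have key : ∀ (m : R), (∀ y, ((MulAut.congr (homEquiv hφ hr) a y : autImage α U) : Ω) =
      ((α m : R) : Ω) * (y : Ω) * ((α m : R) : Ω)⁻¹) ↔
        ∀ x : U, ((a x : U) : Ω) = (m : Ω) * (x : Ω) * (m : Ω)⁻¹ := by
    intro m
    constructor
    · intro h x
      have h1 := h (homEquiv hφ hr x)
      rw [congr_apply, coe_homEquiv, coe_homEquiv, hv, hv, ← Subgroup.coe_inv, ← map_inv,
        ← Subgroup.coe_mul, ← map_mul, ← Subgroup.coe_mul, ← map_mul] at h1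
      exact congrArg Subtype.val (α.injective (Subtype.ext h1))
    · intro h y
      obtain ⟨x, rfl⟩ := (homEquiv hφ hr).surjective y
      rw [congr_apply, coe_homEquiv, coe_homEquiv, hv, hv, ← Subgroup.coe_inv, ← map_inv,
        ← Subgroup.coe_mul, ← map_mul, ← Subgroup.coe_mul, ← map_mul]
      exact congrArg (fun z : R => ((α z : R) : Ω)) (Subtype.ext (h x))
  constructor
  · intro h
    obtain ⟨y, hy, he⟩ := mem_autInducedBy_iff.1 h
    obtain ⟨m, hm, rfl⟩ := hy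
    exact mem_autInducedBy_iff.2 ⟨m, hm, (key m).1 he⟩
  · intro h
    obtain ⟨m, hm, he⟩ := mem_autInducedBy_iff.1 h
    exact mem_autInducedBy_iff.2 ⟨_, mem_autImage.2 (show ((⟨m, hM hm⟩ : R) : Ω) ∈ M from hm),
      (key ⟨m, hM hm⟩).2 he⟩

/-- Lifting at a subgroup carried to a fully normalized one. -/
theorem exists_lift_top (c : Ctx F E D p) {U M : Subgroup Ω} (hU : InH F (T ⊓ T') U)
    (htop : Top F (T ⊓ T') U) (hUM : U ≤ M) (hM : M ≤ normalizerIn (T ⊓ T') U) {x : MulAut U}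
    (hx : x ∈ kAut E D U) (hc : (orderOf x).Coprime p)
    (hn : ∀ a ∈ autInducedBy M U, x * a * x⁻¹ ∈ autInducedBy M U) :
    ∃ δ ∈ kAut E D M, (orderOf δ).Coprime p ∧
      ∀ y : U, ((δ (Subgroup.inclusion hUM y) : M) : Ω) = ((x y : U) : Ω) := by
  set R := T ⊓ T' with hR
  obtain ⟨hUR, α, hα, hn₂⟩ := htop
  change F.IsFullyNormalized (autImage α U) at hn₂
  have hMR : M ≤ R := hM.trans (normalizerIn_le R U)
  obtain ⟨hφ, hr⟩ := exists_top_map (U := U) c.le hUR hα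
  obtain ⟨hφM, hrM⟩ := exists_top_map (U := M) c.le hMR hα
  set e := homEquiv hφ hr with he
  set eM := homEquiv hφM hrM with heM
  have hU₂R : autImage α U ≤ R := autImage_le α U
  have hU₂M₂ : autImage α U ≤ autImage α M := by
    rintro _ ⟨z, hz, rfl⟩
    exact ⟨z, hUM hz, rfl⟩
  have hM₂ : autImage α M ≤ normalizerIn R (autImage α U) := by
    rintro _ ⟨m, hm, rfl⟩
    have hm' : (m : Ω) ∈ M := hm
    refine ⟨(α m).2, mem_normalizer_of_aut (α := MulAut.congr e (conjAut (hM hm').2)) fun y => ?_⟩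
    obtain ⟨u, rfl⟩ := e.surjective y
    rw [congr_apply, he, coe_homEquiv, coe_homEquiv]
    show ((α ⟨(m : Ω) * u * (m : Ω)⁻¹, _⟩ : R) : Ω) =
      ((α m : R) : Ω) * ((α ⟨(u : Ω), hUR u.2⟩ : R) : Ω) * ((α m : R) : Ω)⁻¹
    refine (congrArg (fun z : R => ((α z : R) : Ω))
      (Subtype.ext rfl : _ = m * ⟨(u : Ω), hUR u.2⟩ * m⁻¹)).trans ?_
    simp only [map_mul, map_inv, Subgroup.coe_mul, Subgroup.coe_inv]
  have hx₂ := congr_mem_kAut c hUR hφ hr hx
  have hc₂ : (orderOf (MulAut.congr e x)).Coprime p := by rwa [MulEquiv.orderOf_eq]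
  have : Finite T := finite_of_le c.closedE.1
  have : Finite T' := finite_of_le c.closedD.1
  obtain ⟨δ₂, hδ₂, hδ₂c, hδ₂v⟩ := exists_lift_coprime c (hU.image hφ hr)
    (isReceptive_of_fullyNormalized (c.hS.to_le c.closedE.1) c.hE.1.1
      (NormalExtensions.isFullyNormalized_sub c.hS c.hF c.invE.1 c.closedE
        (hU₂R.trans inf_le_left) hn₂) (F := E))
    (isReceptive_of_fullyNormalized (c.hS.to_le c.closedD.1) c.hD.1.1
      (NormalExtensions.isFullyNormalized_sub c.hS c.hF c.invD.1 c.closedD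
        (hU₂R.trans inf_le_right) hn₂) (F := D))
    hU₂M₂ hM₂ hx₂ hc₂ (fun a ha => by
      obtain ⟨a₀, rfl⟩ := (MulAut.congr e).surjective a
      rw [← map_inv, ← map_mul, ← map_mul]
      exact (congr_mem_autInducedBy_iff c.le hUR hMR hα hφ hr fun _ => rfl).2
        (hn a₀ ((congr_mem_autInducedBy_iff c.le hUR hMR hα hφ hr fun _ => rfl).1 ha)))
  obtain ⟨δ, hδe⟩ := (MulAut.congr eM).surjective δ₂
  obtain ⟨η, hη, hηr, hηi, -⟩ := exists_inverse hφM hrM
  have hback : MulAut.congr (homEquiv hη hηr) δ₂ = δ := by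
    rw [← hδe]
    refine MulEquiv.ext fun z => ?_
    have hz : ∀ w : M, homEquiv hη hηr (eM w) = w := fun w => Subtype.ext (hηi w (eM w).2)
    conv_lhs => rw [← hz z, congr_apply, congr_apply, hz]
  refine ⟨δ, hback ▸ congr_mem_kAut c (autImage_le α M) hη hηr hδ₂, ?_, fun y => ?_⟩
  · rw [← hback, MulEquiv.orderOf_eq]
    exact hδ₂c
  · have h1 := hδ₂v (e y)
    rw [show Subgroup.inclusion hU₂M₂ (e y) = eM (Subgroup.inclusion hUM y) from Subtype.ext rfl,
      ← hδe, congr_apply, congr_apply, heM, coe_homEquiv, coe_homEquiv] at h1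
    exact congrArg Subtype.val (α.injective (Subtype.ext h1) : (⟨_, hMR (δ _).2⟩ : R) = ⟨_, hUR (x y).2⟩)

/-- Following a chain in `meetAut`. -/
theorem exists_chain_map (c : Ctx F E D p) {U : Subgroup Ω} (hU : InH F (T ⊓ T') U)
    (htop : Top F (T ⊓ T') U) (P : Sylow p (meetAut F E D p U))
    (hP : (P : Subgroup (meetAut F E D p U)) =
      (autInducedBy (T ⊓ T') U).subgroupOf (meetAut F E D p U))
    {A : Set (meetAut F E D p U)} {g : meetAut F E D p U}
    (h : Transfer.FusionChain (Transfer.IsTame P) A g) :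
    ∀ W : Subgroup Ω, ∀ hUW : U ≤ W, W ≤ normalizerIn (T ⊓ T') U →
      (∀ w ∈ W, ∀ α : meetAut F E D p U,
        (∀ y : U, (((α : MulAut U) y : U) : Ω) = w * y * w⁻¹) → α ∈ A) →
      ∃ Φ ∈ (meetSystem c).Hom W, (∀ w, Φ w ∈ normalizerIn (T ⊓ T') U) ∧
        ∀ y : U, Φ (Subgroup.inclusion hUW y) = (((g : MulAut U)⁻¹ y : U) : Ω) := by
  set R := T ⊓ T' with hR
  have := finite_mulAut (Ω := Ω) (hU.le.trans c.le)
  induction h with
  | one A =>
    intro W hUW hWN _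
    exact ⟨W.subtype, subtype_mem _ (hWN.trans (normalizerIn_le _ _)), fun w => hWN w.2,
      fun y => by simp⟩
  | @step A Dd x h hD hA hx _ ih =>
    intro W hUW hWN hWA
    obtain ⟨Q, hQ⟩ := hD
    have hDP : Dd ≤ (P : Subgroup (meetAut F E D p U)) := by rw [hQ.1]; exact inf_le_left
    set D₂ : Subgroup (MulAut U) := Dd.map (meetAut F E D p U).subtype with hD₂
    set M := Criterion.inducing R U D₂ with hMdef
    have hM : M ≤ normalizerIn R U := fun m hm => by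
      obtain ⟨hmR, hmN, -⟩ := Criterion.mem_inducing.1 hm
      exact ⟨hmR, hmN⟩
    have hWM : W ≤ M := fun w hw => by
      obtain ⟨hwR, hwN⟩ := hWN hw
      have hα : conjAut hwN ∈ meetAut F E D p U :=
        autInducedBy_le_meetAut (hU.le.trans c.le) (conjAut_mem_autInducedBy hwR hwN)
      exact Criterion.mem_inducing.2
        ⟨hwR, hwN, ⟨_, hα⟩, hA (hWA w hw ⟨_, hα⟩ fun y => rfl), rfl⟩
    have hUM : U ≤ M := hUW.trans hWM
    have hMR : M ≤ R := hM.trans (normalizerIn_le R U)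
    have hMH : InH F R M := hU.mono hUM hMR
    have hindM : autInducedBy M U = D₂ := by
      refine le_antisymm (fun a ha => ?_) fun a ha => ?_
      · obtain ⟨m, hm, he⟩ := mem_autInducedBy_iff.1 ha
        obtain ⟨-, hmN, hb⟩ := Criterion.mem_inducing.1 hm
        rw [show a = conjAut hmN from MulEquiv.ext fun y => Subtype.ext (he y)]
        exact hb
      · obtain ⟨d, hd, rfl⟩ := ha
        have h1 := hDP hd
        rw [hP, Subgroup.mem_subgroupOf] at h1
        obtain ⟨r, hr, hre⟩ := mem_autInducedBy_iff.1 h1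
        exact mem_autInducedBy_iff.2 ⟨r, Criterion.mem_inducing.2
          ⟨hr, mem_normalizer_of_aut hre, d, hd,
            MulEquiv.ext fun y => Subtype.ext (hre y)⟩, hre⟩
    set N := Subgroup.normalizer (Dd : Set (meetAut F E D p U)) with hN
    -- the elements extending to `M`
    let G : Subgroup N :=
      { carrier := {y | ∃ δ ∈ (meetSystem c).autGroup M, ∀ z : U,
          ((δ (Subgroup.inclusion hUM z) : M) : Ω) =
            ((((y : meetAut F E D p U) : MulAut U) z : U) : Ω)}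
        one_mem' := ⟨1, one_mem _, fun z => rfl⟩
        mul_mem' := by
          rintro a b ⟨δ, hδ, hv⟩ ⟨δ', hδ', hv'⟩
          refine ⟨δ * δ', mul_mem hδ hδ', fun z => ?_⟩
          rw [MulAut.mul_apply, show δ' (Subgroup.inclusion hUM z) = Subgroup.inclusion hUM
            (((b : meetAut F E D p U) : MulAut U) z) from Subtype.ext (hv' z), hv]
          rfl
        inv_mem' := by
          rintro a ⟨δ, hδ, hv⟩
          refine ⟨δ⁻¹, inv_mem hδ, fun z => ?_⟩
          have h1 : δ (Subgroup.inclusion hUM ((((a : meetAut F E D p U)) : MulAut U)⁻¹ z)) =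
              Subgroup.inclusion hUM z := Subtype.ext (by
            rw [hv, MulAut.apply_inv_self]; rfl)
          show ((δ⁻¹ (Subgroup.inclusion hUM z) : M) : Ω) = _
          rw [← h1, MulAut.inv_apply_self]
          rfl }
    have hSp : IsPGroup p (((P : Subgroup (meetAut F E D p U)) ⊓ N).subgroupOf N) :=
      (P.2.to_le inf_le_left).comap_subtype
    have hG : (⊤ : Subgroup N) ≤ G := by
      rw [← Transfer.sylow_sup_pResidual_eq_top (hSp.toSylow hQ.2.1)]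
      refine sup_le (fun y hy => ?_) ((Subgroup.closure_le _).2 fun y hy => ?_)
      · have hyP : (y : meetAut F E D p U) ∈ (P : Subgroup (meetAut F E D p U)) := hy.1
        rw [hP, Subgroup.mem_subgroupOf] at hyP
        obtain ⟨r, hr, hre⟩ := mem_autInducedBy_iff.1 hyP
        have hrN := mem_normalizer_of_aut hre
        have hrM : r ∈ Subgroup.normalizer (M : Set Ω) := by
          have : Finite M := finite_of_le (Ω := Ω) (hMR.trans c.le)
          refine mem_normalizer_of_forall fun m hm => ?_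
          obtain ⟨hmR, hmN, d, hd, hbe⟩ := Criterion.mem_inducing.1 hm
          refine Criterion.mem_inducing.2 ⟨R.mul_mem (R.mul_mem hr hmR) (R.inv_mem hr),
            mul_mem (mul_mem hrN hmN) (inv_mem hrN),
            _, (Subgroup.mem_normalizer_iff.1 y.2 d).1 hd, ?_⟩
          have hbe' : (d : MulAut U) = conjAut hmN := hbe
          rw [Subgroup.coe_subtype, Subgroup.coe_mul, Subgroup.coe_mul, Subgroup.coe_inv, hbe',
            show ((y : meetAut F E D p U) : MulAut U) = conjAut hrN from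
              MulEquiv.ext fun z => Subtype.ext (hre z)]
          refine MulEquiv.ext fun z => ?_
          obtain ⟨w, rfl⟩ := (conjAut hrN).surjective z
          rw [MulAut.mul_apply, MulAut.mul_apply, MulAut.inv_apply_self]
          refine Subtype.ext ?_
          simp only [coe_conjAut]
          group
        exact ⟨conjAut hrM,
          autInducedBy_le_autGroup _ hMR (conjAut_mem_autInducedBy hr hrM),
          fun z => (hre z).symm⟩
      · have hyK : ((y : meetAut F E D p U) : MulAut U) ∈ kAut E D U :=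
          meetAut_le_kAut c hU.le (y : meetAut F E D p U).2
        obtain ⟨δ, hδ, hδc, hδv⟩ := exists_lift_top c hU htop hUM hM hyK
          (by rw [Subgroup.orderOf_coe, Subgroup.orderOf_coe]; exact hy) (by
            rw [hindM]
            rintro _ ⟨d, hd, rfl⟩
            exact ⟨_, (Subgroup.mem_normalizer_iff.1 y.2 d).1 hd, rfl⟩)
        exact ⟨δ, (mem_autGroup_iff hMR).2 (large_meetSystem c M hMH δ hδ hδc), hδv⟩
    obtain ⟨δ, hδ, hδv⟩ := hG (Subgroup.mem_top (⟨x, hx⟩ : N)⁻¹)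
    obtain ⟨hδh, hδr⟩ := hom_of_mem_autGroup hMR hδ
    set φ₁ := (M.subtype.comp δ.toMonoidHom).comp (Subgroup.inclusion hWM) with hφ₁
    have hφ₁X : φ₁ ∈ (meetSystem c).Hom W := restrict_mem hδh hWM
    set W₁ := φ₁.range with hW₁
    have hW₁N : W₁ ≤ normalizerIn R U := by
      rintro _ ⟨w, rfl⟩
      exact hM (δ _).2
    have hUW₁ : U ≤ W₁ := fun z hz => by
      obtain ⟨u, hu⟩ := ((x : MulAut U)⁻¹).surjective ⟨z, hz⟩
      refine ⟨Subgroup.inclusion hUW u, ?_⟩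
      show ((δ (Subgroup.inclusion hUM u) : M) : Ω) = z
      rw [hδv]
      exact congrArg Subtype.val hu
    obtain ⟨Φ, hΦ, hΦN, hΦv⟩ := ih W₁ hUW₁ hW₁N (fun w' hw' α hα => by
      obtain ⟨w, rfl⟩ := hw'
      obtain ⟨hwR, hwN⟩ := hWN w.2
      have hmem : conjAut hwN ∈ meetAut F E D p U :=
        autInducedBy_le_meetAut (hU.le.trans c.le) (conjAut_mem_autInducedBy hwR hwN)
      refine ⟨⟨_, hmem⟩, hWA w w.2 _ fun y => rfl, Subtype.ext (MulEquiv.ext fun y => ?_)⟩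
      obtain ⟨u, rfl⟩ := ((x : MulAut U)⁻¹).surjective y
      refine Subtype.ext ?_
      rw [Subgroup.coe_mul, Subgroup.coe_mul, Subgroup.coe_inv, MulAut.mul_apply, MulAut.mul_apply,
        MulAut.apply_inv_self, hα]
      show (((x : MulAut U)⁻¹ (conjAut hwN u) : U) : Ω) =
        φ₁ w * (((x : MulAut U)⁻¹ u : U) : Ω) * (φ₁ w)⁻¹
      have e1 := hδv u
      have e2 := hδv (conjAut hwN u)
      simp only [Subgroup.coe_inv] at e1 e2
      rw [← e2, ← e1]
      show φ₁ ⟨_, hUW (conjAut hwN u).2⟩ = φ₁ w * φ₁ (Subgroup.inclusion hUW u) * (φ₁ w)⁻¹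
      rw [← map_inv, ← map_mul, ← map_mul]
      exact congrArg φ₁ (Subtype.ext rfl))
    refine ⟨_, (meetSystem c).comp_mem hφ₁X hΦ fun w => ⟨w, rfl⟩, fun w => hΦN _, fun y => ?_⟩
    have e1 := hδv y
    simp only [Subgroup.coe_inv] at e1
    refine Eq.trans (congrArg Φ (Subtype.ext e1 :
      (⟨φ₁ (Subgroup.inclusion hUW y), _, rfl⟩ : W₁) =
        Subgroup.inclusion hUW₁ ((x : MulAut U)⁻¹ y))) ?_
    rw [hΦv, Subgroup.coe_mul, mul_inv_rev]
    rfl

/-- An element of `meetAut` conjugating the automorphisms induced by `W` into `Aut_R(U)` extends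
to `W`. -/
theorem exists_map_of_conj (c : Ctx F E D p) (hk : KerBound F E D p) {U : Subgroup Ω}
    (hU : InH F (T ⊓ T') U) (htop : Top F (T ⊓ T') U) {a : MulAut U}
    (ha : a ∈ meetAut F E D p U) {W : Subgroup Ω} (hUW : U ≤ W)
    (hWN : W ≤ normalizerIn (T ⊓ T') U)
    (hcj : ∀ b ∈ autInducedBy W U, a * b * a⁻¹ ∈ autInducedBy (T ⊓ T') U) :
    ∃ Φ ∈ (meetSystem c).Hom W, (∀ w, Φ w ∈ normalizerIn (T ⊓ T') U) ∧
      ∀ y : U, Φ (Subgroup.inclusion hUW y) = ((a y : U) : Ω) := by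
  set R := T ⊓ T' with hR
  have hUS := hU.le.trans c.le
  have := finite_mulAut (Ω := Ω) hUS
  have hle := autInducedBy_le_meetAut (E := E) (D := D) (p := p) (F := F) (T := T) (T' := T') hUS
  have hpg : IsPGroup p ((autInducedBy R U).subgroupOf (meetAut F E D p U)) :=
    (isPGroup_autInducedBy (c.hS.to_le c.le) U).of_equiv
      (Subgroup.subgroupOfEquivOfLe hle).symm
  obtain ⟨P₀, hP₀⟩ := hpg.exists_le_sylow
  have hP : (P₀ : Subgroup (meetAut F E D p U)) =
      (autInducedBy R U).subgroupOf (meetAut F E D p U) := by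
    refine le_antisymm (fun w hw => ?_) hP₀
    exact sylR_of_top c hk htop _ (P₀.isPGroup'.map _) (fun b hb => ⟨⟨b, hle hb⟩, hP₀ hb, rfl⟩)
      (Subgroup.map_subtype_le _) ⟨w, hw, rfl⟩
  set A : Set (meetAut F E D p U) := {α | (α : MulAut U) ∈ autInducedBy W U} with hA
  have hAP : A ⊆ (P₀ : Set (meetAut F E D p U)) := fun α hα => by
    show α ∈ (P₀ : Subgroup (meetAut F E D p U))
    rw [hP]
    exact autInducedBy_mono (hWN.trans (normalizerIn_le R U)) hα
  have hch := Transfer.alperin P₀ A (⟨a, ha⟩ : meetAut F E D p U)⁻¹ hAP (fun α hα => by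
    rw [inv_inv]
    show _ ∈ (P₀ : Subgroup (meetAut F E D p U))
    rw [hP]
    exact hcj _ hα)
  obtain ⟨Φ, hΦ, hΦN, hΦv⟩ := exists_chain_map c hU htop P₀ hP hch W hUW hWN
    fun w hw α hα => mem_autInducedBy_iff.2 ⟨w, hw, hα⟩
  refine ⟨Φ, hΦ, hΦN, fun y => ?_⟩
  rw [hΦv, Subgroup.coe_inv, inv_inv]

/-- At a `Top` subgroup `meetAut` lies in the system. -/
theorem meetAut_le_autGroup_top (c : Ctx F E D p) (hk : KerBound F E D p) {U : Subgroup Ω}
    (hU : InH F (T ⊓ T') U) (htop : Top F (T ⊓ T') U) :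
    meetAut F E D p U ≤ (meetSystem c).autGroup U := by
  intro a ha
  obtain ⟨Φ, hΦ, -, hv⟩ := exists_map_of_conj c hk hU htop ha le_rfl (le_normalizerIn hU.le)
    fun b hb => by
      obtain ⟨u, hu, hbe⟩ := mem_autInducedBy_iff.1 hb
      refine mem_autInducedBy_iff.2 ⟨(a ⟨u, hu⟩ : U), hU.le (a _).2, fun z => ?_⟩
      obtain ⟨v, rfl⟩ := a.surjective z
      rw [MulAut.mul_apply, MulAut.mul_apply, MulAut.inv_apply_self, ← Subgroup.coe_inv, ← map_inv,
        ← Subgroup.coe_mul, ← map_mul, ← Subgroup.coe_mul, ← map_mul]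
      exact congrArg (fun t : U => ((a t : U) : Ω)) (Subtype.ext (hbe v))
  exact (mem_autGroup_iff hU.le).2 (mem_of_le hΦ le_rfl fun y => (hv y).symm)

/-- The system is transported by the automorphisms in `F` of its base. -/
theorem transports_meetSystem (c : Ctx F E D p) : Transports (meetSystem c) F := by
  set R := T ⊓ T' with hR
  intro P hPR φ hφ α hα
  have hαφ := (mem_autGroup_iff c.le).1 hα
  let C : ∀ Q : Subgroup Ω, (Q →* Ω) → Prop := fun Q ψ =>
    ∃ (hQT : Q ≤ R), ∃ χ ∈ (meetSystem c).Hom ((Q.subgroupOf R).map (R.subtype.comp α.toMonoidHom)),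
      ∀ (x : Q) (hψx : ψ x ∈ R)
        (hαx : ((α ⟨x, hQT x.2⟩ : R) : Ω) ∈ (Q.subgroupOf R).map (R.subtype.comp α.toMonoidHom)),
        χ ⟨(α ⟨x, hQT x.2⟩ : R), hαx⟩ = ((α ⟨ψ x, hψx⟩ : R) : Ω)
  have hconjC : ∀ (X : Subgroup Ω) (g : Ω), X ≤ R → g ∈ R → C X (conjHom X g) := by
    intro Q g hQ hg
    refine ⟨hQ, conjHom _ ((α ⟨g, hg⟩ : R) : Ω), (meetSystem c).conj_mem (map_aut_le Q) (α _).2,
      fun x hx hy => ?_⟩
    show ((α ⟨g, hg⟩ : R) : Ω) * ((α ⟨x, hQ x.2⟩ : R) : Ω) * ((α ⟨g, hg⟩ : R) : Ω)⁻¹ = _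
    rw [← Subgroup.coe_inv, ← map_inv, ← Subgroup.coe_mul, ← Subgroup.coe_mul, ← map_mul,
      ← map_mul]
    rfl
  have hcompC : ∀ (X Y : Subgroup Ω) (φ : X →* Ω) (ψ : Y →* Ω), φ ∈ (meetSystem c).Hom X →
      ψ ∈ (meetSystem c).Hom Y → C X φ → C Y ψ → ∀ h : ∀ x : X, φ x ∈ Y,
        C X (ψ.comp (φ.codRestrict Y h)) := by
    rintro Q Q' ψ ψ' hψ hψ' ⟨hQ, χ, hχ, he⟩ ⟨hQ', χ', hχ', he'⟩ h
    have hmem : ∀ y, χ y ∈ (Q'.subgroupOf R).map (R.subtype.comp α.toMonoidHom) := by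
      rintro ⟨_, z, hz, rfl⟩
      have h1 := he ⟨z, hz⟩ (apply_mem hψ _) ⟨z, hz, rfl⟩
      exact h1 ▸ ⟨⟨ψ ⟨z, hz⟩, apply_mem hψ _⟩, h _, rfl⟩
    refine ⟨hQ, _, (meetSystem c).comp_mem hχ hχ' hmem, fun x hx hy => ?_⟩
    show χ' ⟨χ _, _⟩ = _
    refine Eq.trans ?_ (he' ⟨ψ x, h x⟩ hx ⟨⟨ψ x, apply_mem hψ x⟩, h x, rfl⟩)
    exact congrArg χ' (Subtype.ext (he x (apply_mem hψ x) hy))
  have hinvC : ∀ (X : Subgroup Ω) (φ : X →* Ω) (ψ : φ.range →* Ω), φ ∈ (meetSystem c).Hom X →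
      C X φ → ψ ∈ (meetSystem c).Hom φ.range →
      (∀ x : X, ψ ⟨φ x, ⟨x, rfl⟩⟩ = (x : Ω)) → C φ.range ψ := by
    rintro Q ψ η hψ ⟨hQ, χ, hχ, he⟩ hη hi
    have hr : χ.range = (ψ.range.subgroupOf R).map (R.subtype.comp α.toMonoidHom) := by
      ext y
      constructor
      · rintro ⟨⟨_, z, hz, rfl⟩, rfl⟩
        have h1 := he ⟨z, hz⟩ (apply_mem hψ _) ⟨z, hz, rfl⟩
        exact h1 ▸ ⟨⟨ψ ⟨z, hz⟩, apply_mem hψ _⟩, ⟨_, rfl⟩, rfl⟩
      · rintro ⟨⟨z, hzT⟩, ⟨x, rfl⟩, rfl⟩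
        exact ⟨⟨_, ⟨x, hQ x.2⟩, x.2, rfl⟩, he x hzT ⟨_, x.2, rfl⟩⟩
    obtain ⟨ρ, hρ, -, hρi, -⟩ := exists_inverse hχ hr
    refine ⟨range_le hψ, ρ, hρ, ?_⟩
    rintro ⟨_, x, rfl⟩ hx hy
    have h1 := he x (apply_mem hψ x) ⟨⟨x, hQ x.2⟩, x.2, rfl⟩
    have h2 := hρi ⟨_, ⟨x, hQ x.2⟩, x.2, rfl⟩ (h1 ▸ hy)
    refine Eq.trans (congrArg ρ (Subtype.ext h1.symm)) (h2.trans ?_)
    exact congrArg (fun t : R => ((α t : R) : Ω)) (Subtype.ext (hi x).symm)
  have hgenC : ∀ M : Subgroup Ω, InH F R M → ∀ g ∈ kAut E D M, (orderOf g).Coprime p →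
      C M (M.subtype.comp g.toMonoidHom) := by
    intro M hM g hg hc
    have hMR : M ≤ R := hM.le
    refine ⟨hMR, ?_⟩
    set M' := (M.subgroupOf R).map (R.subtype.comp α.toMonoidHom) with hM'
    obtain ⟨hθ, hr⟩ := exists_top_map (U := M) c.le hMR hα
    have hc' : (orderOf (MulAut.congr (homEquiv hθ hr) g)).Coprime p := by
      rwa [MulEquiv.orderOf_eq]
    refine ⟨_, large_meetSystem c M' (hM.image hθ hr) _ (congr_mem_kAut c hMR hθ hr hg) hc',
      fun x hx hy => ?_⟩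
    show ((MulAut.congr (homEquiv hθ hr) g ⟨_, hy⟩ : autImage α M) : Ω) = _
    rw [show (⟨((α ⟨x, hMR x.2⟩ : R) : Ω), hy⟩ : autImage α M) = homEquiv hθ hr x from
      Subtype.ext rfl, congr_apply, coe_homEquiv]
    rfl
  obtain ⟨_, χ, hχ, he⟩ := meetSystem_induction c C hconjC hcompC hinvC hgenC hφ
  exact ⟨χ, hχ, he⟩

/-- The trace on `R` of a centric radical subgroup of `F` is in `InH`. -/
theorem inH_inf (c : Ctx F E D p) {P : Subgroup Ω} (hc : F.IsCentric P) (hr : F.IsRadical p P) :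
    InH F (T ⊓ T') (P ⊓ (T ⊓ T')) := by
  set R := T ⊓ T' with hR
  have hPS := hc.1
  have hRn := le_normalizer_of_stronglyClosed c.closed
  have hP₀S : P ⊓ R ≤ S := inf_le_left.trans hPS
  obtain ⟨U₁, hU₁c, hU₁⟩ := exists_fullyNormalized F hP₀S
  obtain ⟨ψ, hψ, hψN, hψP⟩ := exists_hom_fullyNormalized c.hS c.hF hU₁ hU₁c
  have hPN : P ≤ normalizerIn S (P ⊓ R) := fun x hx => ⟨hPS hx, Subgroup.mem_normalizer_iff.2
    fun y => and_congr (Subgroup.mem_normalizer_iff.1 (Subgroup.le_normalizer hx) y)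
      (Subgroup.mem_normalizer_iff.1 (hRn (hPS hx)) y)⟩
  have hψP' := restrict_mem hψ hPN
  set P' := (ψ.comp (Subgroup.inclusion hPN)).range with hP'
  obtain ⟨η, hη, hηr, hηi, -⟩ := exists_inverse hψP' hP'.symm
  have hinter : P' ⊓ R = U₁ := by
    refine le_antisymm ?_ fun y hy => ?_
    · rintro _ ⟨⟨x, rfl⟩, hxR⟩
      refine hψP.le ⟨_, ⟨x.2, ?_⟩, rfl⟩
      have h1 := apply_mem_closed c.closed hη ⟨_, x, rfl⟩ hxR
      rwa [hηi x ⟨x, rfl⟩] at h1
    · obtain ⟨⟨x, hxN⟩, hx, rfl⟩ := hψP.ge hy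
      exact ⟨⟨⟨x, hx.1⟩, rfl⟩,
        c.closed.2 (P ⊓ R) inf_le_right _ (restrict_mem hψ (le_normalizerIn hP₀S)) ⟨x, hx⟩⟩
  have hP'c : F.IsCentric P' := isCentric_of_isConj hc ⟨_, hψP', rfl⟩
  have hP'S : P' ≤ S := hP'c.1
  have hP'N : P' ≤ Subgroup.normalizer (U₁ : Set Ω) := by
    rintro _ ⟨x, rfl⟩
    exact (hψN _).2
  have hcen : centralizerIn R U₁ ≤ U₁ := by
    by_contra hne
    set C₁ := centralizerIn R U₁ with hC₁
    have hC₁S : C₁ ≤ S := (centralizerIn_le R U₁).trans c.le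
    have hCn : P' ≤ Subgroup.normalizer (C₁ : Set Ω) := by
      have key : ∀ h ∈ P', ∀ x ∈ C₁, h * x * h⁻¹ ∈ C₁ := fun h hh x hx => by
        refine ⟨(Subgroup.mem_normalizer_iff.1 (hRn (hP'S hh)) x).1 hx.1,
          Subgroup.mem_centralizer_iff.2 fun u hu => ?_⟩
        have hu' : h⁻¹ * u * h ∈ U₁ := (Subgroup.mem_normalizer_iff''.1 (hP'N hh) u).1 hu
        have h1 := hx.2 _ hu'
        calc u * (h * x * h⁻¹) = h * ((h⁻¹ * u * h) * x) * h⁻¹ := by group
          _ = h * (x * (h⁻¹ * u * h)) * h⁻¹ := by rw [h1]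
          _ = h * x * h⁻¹ * u := by group
      intro h hh
      refine Subgroup.mem_normalizer_iff.2 fun x => ⟨key h hh x, fun hx => ?_⟩
      have := key _ (P'.inv_mem hh) _ hx
      simpa [mul_assoc] using this
    have hlt : P' < P' ⊔ C₁ := lt_of_le_of_ne le_sup_left fun he =>
      hne fun x hx => hinter.le ⟨he.ge (Subgroup.mem_sup_right hx), hx.1⟩
    have hsup : P' ⊔ C₁ ≤ S := sup_le hP'S hC₁S
    have := finite_of_le (Ω := Ω) hsup
    obtain ⟨g, ⟨hgm, hgN⟩, hgP⟩ :=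
      SetLike.exists_of_lt (lt_normalizerIn (c.hS.to_le hsup) hlt)
    have hgm' : g ∈ ((P' ⊔ C₁ : Subgroup Ω) : Set Ω) := hgm
    rw [Subgroup.coe_mul_of_left_le_normalizer_right P' C₁ hCn] at hgm'
    obtain ⟨x, hx, q, hq, rfl⟩ := hgm'
    have hqN : q ∈ Subgroup.normalizer (P' : Set Ω) := by
      have h1 := Subgroup.mul_mem _ (Subgroup.inv_mem _ (Subgroup.le_normalizer hx)) hgN
      simpa using h1
    refine hgP (P'.mul_mem hx ?_)
    -- `q` acts as an element of the normal `p`-subgroup of translations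
    have hqS : q ∈ S := c.le hq.1
    have hqF : conjAut hqN ∈ F.autGroup P' :=
      autInducedBy_le_autGroup F hP'S (conjAut_mem_autInducedBy hqS hqN)
    have hqt : conjAut hqN ∈ fixingTranslations F P' U₁ := by
      refine ⟨hqF, fun z hz => Subtype.ext ?_, fun z => hinter.le ⟨(z⁻¹ * conjAut hqN z).2, ?_⟩⟩
      · show q * (z : Ω) * q⁻¹ = z
        rw [← hq.2 _ hz, mul_inv_cancel_right]
      · show (z : Ω)⁻¹ * (q * z * q⁻¹) ∈ R
        have h1 : (z : Ω)⁻¹ * q * z ∈ R :=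
          (Subgroup.mem_normalizer_iff''.1 (hRn (hP'S z.2)) q).1 hq.1
        have h2 := R.mul_mem h1 (R.inv_mem hq.1)
        simpa [mul_assoc] using h2
    let N : Subgroup (F.autGroup P') := (fixingTranslations F P' U₁).subgroupOf (F.autGroup P')
    have hNn : N.Normal := by
      refine ⟨fun b hb a => mem_fixingTranslations_conj a.2 (fun z hz => ?_) (fun z hz => ?_) hb⟩
      · rw [← hinter] at hz ⊢
        exact ⟨((a : MulAut P') z).2, apply_mem_of_stronglyClosed c.closed hP'S a.2 hz.2⟩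
      · rw [← hinter] at hz ⊢
        exact ⟨((a : MulAut P')⁻¹ z).2,
          apply_mem_of_stronglyClosed c.closed hP'S (inv_mem a.2) hz.2⟩
    have hNp : IsPGroup p N := (isPGroup_fixingTranslations c.hS hP'S).comap_of_injective
      (F.autGroup P').subtype (Subgroup.subtype_injective _)
    obtain ⟨ρ, hρ, hρr, hρi, -⟩ := exists_inverse hη hηr
    let f : F.autGroup P →* F.autGroup P' :=
      { toFun := fun b => ⟨MulAut.congr (homEquiv hρ hρr) b, congr_mem_autGroup hρ hρr b.2⟩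
        map_one' := Subtype.ext (map_one _)
        map_mul' := fun b b' => Subtype.ext (map_mul _ _ _) }
    have hfinj : Function.Injective f := fun b b' h =>
      Subtype.ext ((MulAut.congr (homEquiv hρ hρr)).injective (congrArg Subtype.val h))
    have he : ∀ z : P', homEquiv hρ hρr (homEquiv hη hηr z) = z := fun z =>
      Subtype.ext (hρi z _)
    set b := MulAut.congr (homEquiv hη hηr) (conjAut hqN) with hb
    have hbb : MulAut.congr (homEquiv hρ hρr) b = conjAut hqN := by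
      refine MulEquiv.ext fun z => ?_
      conv_lhs => rw [← he z]
      rw [congr_apply, hb, congr_apply, he]
    have hbK : (⟨b, congr_mem_autGroup hη hηr hqF⟩ : F.autGroup P) ∈ N.comap f := by
      rw [Subgroup.mem_comap, show f ⟨b, congr_mem_autGroup hη hηr hqF⟩ = ⟨conjAut hqN, hqF⟩ from
        Subtype.ext hbb]
      exact hqt
    have : (N.comap f).Normal := hNn.comap f
    obtain ⟨r, hr'⟩ :=
      hr.2.le ⟨_, PCore.le_pCore (hNp.comap_of_injective f hfinj) hbK, rfl⟩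
    by_contra hqP
    refine conjAut_notMem_inn (isCentric_centralizerIn_le hP'c) hP'S hqS hqN hqP
      ⟨homEquiv hρ hρr r, ?_⟩
    rw [← hbb]
    refine MulEquiv.ext fun z => ?_
    obtain ⟨y, rfl⟩ := (homEquiv hρ hρr).surjective z
    rw [congr_apply, show b = MulAut.conj r from hr'.symm]
    simp
  refine ⟨inf_le_right, c.le, c.closed, fun Q hQ y hy => ?_⟩
  obtain ⟨χ, hχ, -, hχQ⟩ :=
    exists_hom_fullyNormalized c.hS c.hF hU₁ (isConj_trans (isConj_symm hQ) hU₁c)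
  have hQS : Q ≤ S := (isConj_le hQ).2
  have hyN : y ∈ normalizerIn S Q :=
    ⟨c.le hy.1, Subgroup.centralizer_le_normalizer _ hy.2⟩
  have hy₁ : χ ⟨y, hyN⟩ ∈ U₁ := by
    refine hcen ⟨apply_mem_closed c.closed hχ ⟨y, hyN⟩ hy.1, ?_⟩
    refine Subgroup.mem_centralizer_iff.2 fun u hu => ?_
    obtain ⟨w, hw, rfl⟩ := hχQ.ge hu
    rw [← map_mul, ← map_mul]
    exact congrArg χ (Subtype.ext (hy.2 _ hw))
  obtain ⟨w, hw, he⟩ := hχQ.ge hy₁
  rwa [F.injective_of_mem hχ he] at hw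

/-- A Frattini decomposition on `N_S(U)` carries `U` to a `Top` subgroup. -/
theorem exists_reach_of_frattini (c : Ctx F E D p) {U : Subgroup Ω} (hU : InH F (T ⊓ T') U)
    (h : ∀ ψ ∈ F.Hom (normalizerIn S U),
      FrattiniOn (meetSystem c) F (normalizerIn S U) ψ) :
    ∃ (hN : U ≤ normalizerIn (T ⊓ T') U), ∃ φ ∈ (meetSystem c).Hom (normalizerIn (T ⊓ T') U),
      (∀ x, φ x ∈ normalizerIn (T ⊓ T') (φ.comp (Subgroup.inclusion hN)).range) ∧
      Top F (T ⊓ T') (φ.comp (Subgroup.inclusion hN)).range ∧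
      InH F (T ⊓ T') (φ.comp (Subgroup.inclusion hN)).range := by
  set R := T ⊓ T' with hR
  have hUS := hU.le.trans c.le
  obtain ⟨U₂, hU₂c, hU₂⟩ := exists_fullyNormalized F hUS
  obtain ⟨ψ, hψ, -, hψU⟩ := exists_hom_fullyNormalized c.hS c.hF hU₂ hU₂c
  have hle : normalizerIn R U ≤ normalizerIn S U := inf_le_inf_right _ c.le
  obtain ⟨α, hα, φ, hφ, he⟩ := h ψ hψ (normalizerIn R U) hle (normalizerIn_le R U)
  have hUN : U ≤ normalizerIn R U := le_normalizerIn hU.le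
  refine ⟨hUN, φ, hφ, ?_, ?_, hU.image (restrict_mem (meetSystem_sub c _ hφ) hUN) rfl⟩
  · intro x
    refine ⟨apply_mem hφ x, ?_⟩
    have := finite_of_le (Ω := Ω) (range_le (restrict_mem hφ hUN) |>.trans c.le)
    refine mem_normalizer_of_forall fun z hz => ?_
    obtain ⟨u, rfl⟩ := hz
    refine ⟨⟨_, (Subgroup.mem_normalizer_iff.1 x.2.2 u).1 u.2⟩, ?_⟩
    show φ _ = φ x * φ _ * (φ x)⁻¹
    rw [← map_inv, ← map_mul, ← map_mul]
    rfl
  · refine ⟨range_le (restrict_mem hφ hUN), α, hα, ?_⟩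
    convert hU₂ using 1
    rw [← hψU]
    ext z
    constructor
    · rintro ⟨⟨w, hwR⟩, ⟨u, hu⟩, rfl⟩
      refine ⟨⟨u, le_normalizerIn hUS u.2⟩, u.2, ?_⟩
      refine Eq.trans ?_ ((he (Subgroup.inclusion hUN u) (apply_mem hφ _)).trans ?_)
      · exact congrArg ψ (Subtype.ext rfl)
      · exact congrArg (fun t : R => ((α t : R) : Ω)) (Subtype.ext hu)
    · rintro ⟨⟨u, huN⟩, hu, rfl⟩
      refine ⟨⟨φ ⟨u, hUN hu⟩, apply_mem hφ _⟩, ⟨⟨u, hu⟩, rfl⟩, ?_⟩
      exact ((congrArg ψ (Subtype.ext rfl)).trans (he ⟨u, hUN hu⟩ (apply_mem hφ _))).symm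

theorem meetAut_le_of_frattini (c : Ctx F E D p) (hk : KerBound F E D p) {U : Subgroup Ω}
    (hU : InH F (T ⊓ T') U) (h : ∀ ψ ∈ F.Hom (normalizerIn S U),
      FrattiniOn (meetSystem c) F (normalizerIn S U) ψ) :
    meetAut F E D p U ≤ (meetSystem c).autGroup U := by
  obtain ⟨hN, φ, hφ, -, htop, hH⟩ := exists_reach_of_frattini c hU h
  intro a ha
  have h₁ := restrict_mem hφ hN
  have h₁F : φ.comp (Subgroup.inclusion hN) ∈ F.Hom U := meetSystem_sub c U h₁
  have h2 := meetAut_le_autGroup_top c hk hH htop (congr_mem_meetAut c hU.le h₁F rfl ha)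
  obtain ⟨b, hb, hbe⟩ := (map_autGroup h₁ rfl).ge h2
  have : b = a := (MulAut.congr (homEquiv h₁ rfl)).injective
    (hbe.trans (MulEquiv.ext fun y => by
      obtain ⟨x, rfl⟩ := (homEquiv h₁ rfl).surjective y
      rw [congr_apply, show homEquiv h₁ rfl x = homEquiv h₁F rfl x from Subtype.ext rfl, congr_apply]
      exact Subtype.ext rfl))
  exact this ▸ hb

/-- The elements of `Aut_F(P)` inducing elements of `meetAut` on `P ⊓ R`. -/
def meetTrace (F : FusionSystem S) (E : FusionSystem T) (D : FusionSystem T') (p : ℕ)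
    (P : Subgroup Ω) : Subgroup (F.autGroup P) where
  carrier := {a | ∃ β ∈ meetAut F E D p (P ⊓ (T ⊓ T')), ∀ x : ↥(P ⊓ (T ⊓ T')),
    (((a : MulAut P) ⟨x, x.2.1⟩ : P) : Ω) = ((β x : ↥(P ⊓ (T ⊓ T'))) : Ω)}
  one_mem' := ⟨1, one_mem _, fun _ => rfl⟩
  mul_mem' := by
    rintro a b ⟨β, hβ, hb⟩ ⟨γ, hγ, hg⟩
    refine ⟨β * γ, mul_mem hβ hγ, fun x => ?_⟩
    show (((a : MulAut P) ((b : MulAut P) ⟨x, x.2.1⟩) : P) : Ω) = _
    rw [show (b : MulAut P) ⟨x, x.2.1⟩ = ⟨γ x, (γ x).2.1⟩ from Subtype.ext (hg x), hb]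
    rfl
  inv_mem' := by
    rintro a ⟨β, hβ, hb⟩
    refine ⟨β⁻¹, inv_mem hβ, fun x => ?_⟩
    have h1 : (a : MulAut P) ⟨(β⁻¹ x : ↥(P ⊓ (T ⊓ T'))), (β⁻¹ x).2.1⟩ = ⟨x, x.2.1⟩ :=
      Subtype.ext (by rw [hb, MulAut.apply_inv_self])
    show (((a : MulAut P)⁻¹ ⟨x, x.2.1⟩ : P) : Ω) = _
    rw [← h1, MulAut.inv_apply_self]

theorem meetTrace_normal (c : Ctx F E D p) {P : Subgroup Ω} (hP : P ≤ S) :
    (meetTrace F E D p P).Normal := by
  set R := T ⊓ T' with hR
  refine ⟨fun k hk a => ?_⟩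
  obtain ⟨β, hβ, hb⟩ := hk
  have := finite_of_le (Ω := Ω) (inf_le_left.trans hP : P ⊓ R ≤ S)
  have hψ := restrict_mem ((mem_autGroup_iff hP).1 a.2) (inf_le_left : P ⊓ R ≤ P)
  have hψr := range_eq_of_le hψ (inf_le_left.trans hP : P ⊓ R ≤ S)
    (fun x => ⟨((a : MulAut P) _).2, apply_mem_of_stronglyClosed c.closed hP a.2 x.2.2⟩) le_rfl
  set e := homEquiv hψ hψr with he
  refine ⟨MulAut.congr e β, congr_mem_meetAut c inf_le_right hψ hψr hβ, fun x => ?_⟩
  obtain ⟨y, rfl⟩ := e.surjective x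
  rw [congr_apply]
  rw [show (⟨(e y : Ω), (e y).2.1⟩ : P) = (a : MulAut P) ⟨y, y.2.1⟩ from Subtype.ext rfl]
  show (((a : MulAut P) ((k : MulAut P) ((a : MulAut P)⁻¹ ((a : MulAut P) _))) : P) : Ω) = _
  rw [MulAut.inv_apply_self]
  exact congrArg (fun r : P => (((a : MulAut P) r : P) : Ω)) (Subtype.ext (hb y))

set_option maxHeartbeats 1000000 in
/-- Every map of `F` satisfies the Frattini condition. -/
theorem frattiniOn_meetSystem (c : Ctx F E D p) (hk : KerBound F E D p) {P : Subgroup Ω}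
    {φ : P →* Ω} (hφ : φ ∈ F.Hom P) : FrattiniOn (meetSystem c) F P φ := by
  set R := T ⊓ T' with hR
  set X := meetSystem c with hX
  have htr := transports_meetSystem c
  refine frattiniOn_of_step c.hS c.hF c.closed htr ?_ hφ
  intro P hPn hPc hPr hbig α hα Q hQP hQR
  by_cases hRP : R ≤ P
  · obtain ⟨hαφ, -⟩ := hom_of_mem_autGroup hPn.1 hα
    have h1 := restrict_mem hαφ hRP
    have hr : ((P.subtype.comp α.toMonoidHom).comp (Subgroup.inclusion hRP)).range = R :=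
      range_eq_of_le h1 c.le (fun x => c.closed.2 R le_rfl _ h1 x) le_rfl
    exact ⟨toAut h1 hr, toAut_mem h1 hr, Q.subtype, subtype_mem X hQR, fun x hx => rfl⟩
  have hH := inH_inf c hPc hPr
  have hRn := le_normalizer_of_stronglyClosed c.closed
  have hmemN : ∀ g, g ∈ Subgroup.normalizer (R : Set Ω) → g ∈ Subgroup.normalizer (P : Set Ω) →
      g ∈ Subgroup.normalizer ((P ⊓ R : Subgroup Ω) : Set Ω) := by
    intro g hg hgP
    exact Subgroup.mem_normalizer_iff.2 fun y => and_congr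
      (Subgroup.mem_normalizer_iff.1 hgP y) (Subgroup.mem_normalizer_iff.1 hg y)
  have hlt₀ : Nat.card P < Nat.card (normalizerIn S (P ⊓ R)) := by
    refine card_lt_of_lt (normalizerIn_le S _) (lt_of_le_of_ne
      (fun x hx => ⟨hPn.1 hx, hmemN x (hRn (hPn.1 hx)) (Subgroup.le_normalizer hx)⟩) fun he => ?_)
    have hlt : P ⊓ R < R := lt_of_le_of_ne inf_le_right fun h => hRP (h ▸ inf_le_left)
    have := finite_of_le (Ω := Ω) c.le
    obtain ⟨g, hg, hgn⟩ := SetLike.exists_of_lt (lt_normalizerIn (c.hS.to_le c.le) hlt)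
    exact hgn ⟨he.ge ⟨c.le hg.1, hg.2⟩, hg.1⟩
  have hA : meetAut F E D p (P ⊓ R) ≤ X.autGroup (P ⊓ R) :=
    meetAut_le_of_frattini c hk hH fun ψ hψ => hbig _ hlt₀ ψ hψ
  have := meetTrace_normal c hPn.1
  obtain ⟨m, k, hk', hmk, P', hPP', hlt, χ, hχ, hχe⟩ := exists_frattini_extension c.hS c.hF c.le
    hRn hPn hRP (meetTrace F E D p P) (fun g hgR hgN a ha => by
      have hg₀ := hmemN g (Subgroup.le_normalizer hgR) hgN
      exact ⟨conjAut hg₀, autInducedBy_le_meetAut (hH.le.trans c.le)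
        (conjAut_mem_autInducedBy hgR hg₀), fun x => ha _⟩) ⟨α, hα⟩
  obtain ⟨β, hβ, hkβ⟩ := hk'
  have hQ₀ : Q ≤ P ⊓ R := le_inf hQP hQR
  have hkQ := restrict_mem ((mem_autGroup_iff (inf_le_right : P ⊓ R ≤ R)).1 (hA hβ)) hQ₀
  set k₀ := ((P ⊓ R).subtype.comp β.toMonoidHom).comp (Subgroup.inclusion hQ₀) with hk₀
  have hk₀P' : k₀.range ≤ P' := by
    rintro _ ⟨x, rfl⟩
    exact hPP' (β _).2.1
  obtain ⟨δ, hδ, φ₀, hφ₀, he⟩ := hbig P' hlt χ hχ k₀.range hk₀P' (range_le hkQ)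
  refine ⟨δ, hδ, _, X.comp_mem hkQ hφ₀ (fun x => ⟨x, rfl⟩), fun x hx => ?_⟩
  have h1 := he ⟨k₀ x, x, rfl⟩ hx
  refine Eq.trans ?_ h1
  have h2 := hχe ⟨k₀ x, (β _).2.1⟩
  refine Eq.trans ?_ (h2.symm.trans (congrArg χ (Subtype.ext rfl)))
  show ((α (Subgroup.inclusion hQP x) : P) : Ω) = _
  rw [show α = (m : MulAut P) * (k : MulAut P) from congrArg Subtype.val hmk, MulAut.mul_apply]
  exact congrArg (fun r : P => (((m : MulAut P) r : P) : Ω))
    (Subtype.ext (hkβ (Subgroup.inclusion hQ₀ x)))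

theorem isInvariantIn_meetSystem (c : Ctx F E D p) (hk : KerBound F E D p) :
    (meetSystem c).IsInvariantIn F :=
  isInvariantIn_of_frattiniOn (meetSystem_sub c) c.closed (transports_meetSystem c)
    fun _ _ hφ => frattiniOn_meetSystem c hk hφ

theorem meetAut_le_autGroup_meetSystem (c : Ctx F E D p) (hk : KerBound F E D p) {U : Subgroup Ω}
    (hU : InH F (T ⊓ T') U) : meetAut F E D p U ≤ (meetSystem c).autGroup U :=
  meetAut_le_of_frattini c hk hU fun _ hψ => frattiniOn_meetSystem c hk hψ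

end Cfsg.Agent.Fusion.Meet
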